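import Groth.Agent.L27.BigSets.Global
import Groth.Agent.L27.EtSite.BaseChangeIso

/-! # Proper base change in degree zero -/

universe u

open CategoryTheory CategoryTheory.Limits AlgebraicGeometry Opposite

set_option autoImplicit false
set_option backward.isDefEq.respectTransparency.types false
set_option linter.style.haveILetI false

namespace Groth.L27.BigSets

open Groth.L27.EtSite Groth.L27.EtSite.BC

variable {X Y X' Y' : Scheme.{u}} {f : X ⟶ Y} {g : Y' ⟶ Y} {f' : X' ⟶ Y'} {g' : X' ⟶ X}
  [IsProper f] (h : IsPullback g' f' f g)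

include h in
theorem bijective_stalk_baseChange0 (F : EtCoh.Ab X) (Ω : Type u) [Field Ω] [IsSepClosed Ω]
    (η' : Spec (CommRingCat.of Ω) ⟶ Y') :
    Function.Bijective ((EtCoh.stalk η').map (EtCoh.baseChange0 f g f' g' h.w F)) := by
  refine bijective_stalk_of_global h η' F (EtCoh.baseChange0 f g f' g' h.w F)
    (fun R r t => exists_global h F R r t) fun V s => ?_
  rw [EtCoh.baseChange0, Equiv.apply_symm_apply, psi, ← swap_eq h.w V]
  exact map_map_map (P g' F).obj _ _ _ _

include h in
/-- Proper base change in degree zero for abelian sheaves. -/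
theorem isIso_baseChange0 (F : EtCoh.Ab X) : IsIso (EtCoh.baseChange0 f g f' g' h.w F) := by
  haveI : Mono (EtCoh.baseChange0 f g f' g' h.w F) :=
    (mono_iff_stalks _).2 fun Ω _ _ η' => (bijective_stalk_baseChange0 h F Ω η').1
  haveI : Epi (EtCoh.baseChange0 f g f' g' h.w F) :=
    (epi_iff_stalks _).2 fun Ω _ _ η' => (bijective_stalk_baseChange0 h F Ω η').2
  exact isIso_of_mono_of_epi _

include h in
/-- Proper base change in degree zero for sheaves of sets. -/
theorem isIso_baseChange0Sh (F : EtDesc.Sh X) : IsIso (EtBC.baseChange0Sh f g f' g' h.w F) := by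
  refine isIso_of_some_stalks _ fun y' => ?_
  obtain ⟨Ω, _, _, η', hη'⟩ := exists_geometric_point y'
  refine ⟨Ω, inferInstance, inferInstance, η', hη', ?_⟩
  refine bijective_stalk_of_global h η' F (EtBC.baseChange0Sh f g f' g' h.w F)
    (fun R r t => exists_global h F R r t) fun V s => ?_
  rw [EtBC.baseChange0Sh, Equiv.apply_symm_apply, psi, ← swap_eq h.w V]
  exact map_map_map (P g' F).obj _ _ _ _

end Groth.L27.BigSets
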