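import Groth.Agent.L27.BigSets.Elem
import Groth.Agent.L27.Fppf.Pull

/-! # The big sheaf of sets on a small etale site is the inverse image -/

universe u

open CategoryTheory CategoryTheory.Limits AlgebraicGeometry Opposite

set_option autoImplicit false
set_option backward.isDefEq.respectTransparency.types false
set_option linter.style.haveILetI false

noncomputable section

namespace Groth.L27.BigSets

open Groth.L27.Fppf (Jet mem_Jet cT compatiblePreserving_cT pr pr_naturality exists_lift sect sect_pr sect_bc)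

variable {S T : Scheme.{u}} (f : T ⟶ S) (F : EtDesc.Sh S)

/-- The restriction of the big sheaf to the small etale site of `T`. -/
abbrev GT : EtDesc.Sh T :=
  haveI := compatiblePreserving_cT f
  ((cT f).sheafPushforwardContinuous (Type (u + 1)) T.smallEtaleTopology (Jet S)).obj (G F)

/-- The map `F ⟶ f_* (G|T)`. -/
def phi : F ⟶ (EtDesc.pushSh f).obj (GT f F) :=
  ⟨{ app := fun U => e F (pr f U.unop)
     naturality := fun U U' b => by
       refine ConcreteCategory.hom_ext _ _ fun s => ?_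
       show e F (pr f U'.unop) (F.obj.map b.unop.op s) =
         (G F).obj.map ((cT f).map ((EtCoh.bc f).map b.unop)).op (e F (pr f U.unop) s)
       rw [e_nat, e_map, pr_naturality] }⟩

/-- The comparison map. -/
def theta : (EtDesc.pullSh f).obj F ⟶ GT f F :=
  ((EtDesc.adjSh f).homEquiv F (GT f F)).symm (phi f F)

theorem transpose_theta : (EtDesc.adjSh f).homEquiv F (GT f F) (theta f F) = phi f F :=
  Equiv.apply_symm_apply _ _

theorem theta_eta (U : S.Etale) (s : F.obj.obj (op U)) :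
    (theta f F).hom.app (op ((EtCoh.bc f).obj U))
      (((EtDesc.adjSh f).unit.app F).hom.app (op U) s) = e F (pr f U) s := by
  have h := transpose_theta f F
  rw [Adjunction.homEquiv_unit] at h
  exact congrArg (fun z : F ⟶ (EtDesc.pushSh f).obj (GT f F) => z.hom.app (op U) s) h

theorem theta_map_eta {Q : T.Etale} {U : S.Etale} (r : Q ⟶ (EtCoh.bc f).obj U) (s : F.obj.obj (op U)) :
    (theta f F).hom.app (op Q) (((EtDesc.pullSh f).obj F).obj.map r.op
      (((EtDesc.adjSh f).unit.app F).hom.app (op U) s)) = e F ((cT f).map r ≫ pr f U) s := by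
  refine (NatTrans.naturality_apply (theta f F).hom r.op _).trans ?_
  exact (congrArg ((GT f F).obj.map r.op) (theta_eta f F U s)).trans (e_map F _ _ _)

theorem exists_local' {V : S.Etale} {Q : T.Etale} (c : Q ⟶ (EtCoh.bc f).obj V)
    (t : ((EtDesc.pullSh f).obj F).obj.obj (op Q)) (q : Q.left) :
    ∃ (W : S.Etale) (a : W ⟶ V) (Q' : T.Etale) (d : Q' ⟶ Q) (i : Q' ⟶ (EtCoh.bc f).obj W) (q' : Q'.left)
      (s : F.obj.obj (op W)), d.left q' = q ∧ i ≫ (EtCoh.bc f).map a = d ≫ c ∧
        ((EtDesc.pullSh f).obj F).obj.map d.op t = ((EtDesc.pullSh f).obj F).obj.map i.op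
          (((EtDesc.adjSh f).unit.app F).hom.app (op W) s) :=
  EtSite.EtaLocal.exists_local f F c t q

theorem isIso_theta : IsIso (theta f F) := by
  have h1 : Sheaf.IsLocallyInjective (theta f F) := by
    refine ⟨fun {Q} x y hxy => ?_⟩
    refine (EtSite.mem_topology_iff _).2 fun q => ?_
    obtain ⟨W₁, -, Q₁, d₁, i₁, q₁, s₁, hd₁, -, hi₁⟩ := exists_local' f F ((EtCore.bcTopIsTerminal f).from Q.unop) x q
    obtain ⟨W₂, -, Q₂, d₂, i₂, q₂, s₂, hd₂, -, hi₂⟩ := exists_local' f F ((EtCore.bcTopIsTerminal f).from Q.unop) y q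
    obtain ⟨R₀, a₁, a₂, r₀, hr₁, hr₂, haa⟩ := EtSite.exists_common d₁ d₂ q₁ q₂ (hd₁.trans hd₂.symm)
    have hx₁ : ((EtDesc.pullSh f).obj F).obj.map (a₁ ≫ i₁).op (((EtDesc.adjSh f).unit.app F).hom.app (op W₁) s₁) =
        ((EtDesc.pullSh f).obj F).obj.map (a₁ ≫ d₁).op x := by
      rw [op_comp, op_comp, Functor.map_comp, Functor.map_comp, ConcreteCategory.comp_apply,
        ConcreteCategory.comp_apply, hi₁]
    have hx₂ : ((EtDesc.pullSh f).obj F).obj.map (a₂ ≫ i₂).op (((EtDesc.adjSh f).unit.app F).hom.app (op W₂) s₂) =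
        ((EtDesc.pullSh f).obj F).obj.map (a₁ ≫ d₁).op y := by
      rw [haa, op_comp, op_comp, Functor.map_comp, Functor.map_comp, ConcreteCategory.comp_apply,
        ConcreteCategory.comp_apply, hi₂]
    have h0 : e F ((cT f).map (a₁ ≫ i₁) ≫ pr f W₁) s₁ = e F ((cT f).map (a₂ ≫ i₂) ≫ pr f W₂) s₂ :=
      (theta_map_eta f F _ s₁).symm.trans ((congrArg _ hx₁).trans
        ((NatTrans.naturality_apply (theta f F).hom (a₁ ≫ d₁).op x).trans ((congrArg _ hxy).trans
          ((NatTrans.naturality_apply (theta f F).hom (a₁ ≫ d₁).op y).symm.trans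
            ((congrArg _ hx₂.symm).trans (theta_map_eta f F _ s₂))))))
    obtain ⟨T', g, t', U', b₁, b₂, c', hg, ht, hc₁, hc₂, hs⟩ := exists_of_e_eq F _ _ s₁ s₂ h0 r₀
    obtain ⟨R, k, j, -, hjk, hsurj⟩ := exists_lift f g
    obtain ⟨r, hr⟩ := hsurj t'
    refine ⟨R, k ≫ a₁ ≫ d₁, r, ?_, ?_⟩
    · show ((EtDesc.pullSh f).obj F).obj.map (k ≫ a₁ ≫ d₁).op x = ((EtDesc.pullSh f).obj F).obj.map (k ≫ a₁ ≫ d₁).op y
      conv_rhs => rw [haa]
      simp only [op_comp, Functor.map_comp, ConcreteCategory.comp_apply]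
      rw [hi₁, hi₂]
      simp only [← ConcreteCategory.comp_apply, ← Functor.map_comp, ← op_comp]
      rw [← sect_bc f b₁ (j ≫ c') (k ≫ a₁ ≫ i₁) (by
          rw [Category.assoc, hc₁, ← Category.assoc j, hjk]; simp only [Functor.map_comp, Category.assoc]),
        ← sect_bc f b₂ (j ≫ c') (k ≫ a₂ ≫ i₂) (by
          rw [Category.assoc, hc₂, ← Category.assoc j, hjk]; simp only [Functor.map_comp, Category.assoc])]
      simp only [op_comp, Functor.map_comp, ConcreteCategory.comp_apply]
      refine (congrArg _ (NatTrans.naturality_apply ((EtDesc.adjSh f).unit.app F).hom b₁.op s₁).symm).trans ?_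
      refine Eq.trans ?_ (congrArg _ (NatTrans.naturality_apply ((EtDesc.adjSh f).unit.app F).hom b₂.op s₂))
      exact congrArg _ (congrArg _ hs)
    · refine (Scheme.Hom.comp_apply _ _ _).trans ((congrArg (a₁ ≫ d₁).left ?_).trans
        ((Scheme.Hom.comp_apply _ _ _).trans ((congrArg d₁.left hr₁).trans hd₁)))
      refine Eq.trans ?_ ((congrArg g.left hr).trans ht)
      exact (congrArg (fun z : (cT f).obj R ⟶ _ => z.left r) hjk).symm.trans (Scheme.Hom.comp_apply _ _ _)
  have h2 : Sheaf.IsLocallySurjective (theta f F) := by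
    refine ⟨fun {Q} x => ?_⟩
    refine (EtSite.mem_topology_iff _).2 fun q => ?_
    obtain ⟨T', g, t', U, c, s, hg, ht, hs⟩ := exists_e F (T := (cT f).obj Q) x q
    obtain ⟨R, k, j, -, hjk, hsurj⟩ := exists_lift f g
    obtain ⟨r, hr⟩ := hsurj t'
    refine ⟨R, k, r, ⟨((EtDesc.pullSh f).obj F).obj.map (sect f (j ≫ c)).op
      (((EtDesc.adjSh f).unit.app F).hom.app (op U) s), ?_⟩, ?_⟩
    · refine (theta_map_eta f F _ s).trans ?_
      rw [sect_pr, ← e_map, ← hs, map_comp', hjk]
      rfl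
    · refine Eq.trans ?_ ((congrArg g.left hr).trans ht)
      exact (congrArg (fun z : (cT f).obj R ⟶ _ => z.left r) hjk).symm.trans (Scheme.Hom.comp_apply _ _ _)
  exact (Sheaf.isLocallyBijective_iff_isIso (theta f F)).1 ⟨h1, h2⟩

section Composite

variable {Z : Scheme.{u}} (i : Z ⟶ T)

/-- The projection between base changes. -/
def proj (R : T.Etale) : (cT (i ≫ f)).obj ((EtCoh.bc i).obj R) ⟶ (cT f).obj R :=
  Over.homMk (pullback.fst R.hom i) (by
    show pullback.fst R.hom i ≫ R.hom ≫ f = pullback.snd R.hom i ≫ i ≫ f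
    exact pullback.condition_assoc _)

/-- Restriction `G|T ⟶ i_*(G|Z)`. -/
def phi₂ : GT f F ⟶ (EtDesc.pushSh i).obj (GT (i ≫ f) F) :=
  ⟨{ app := fun R => (G F).obj.map (proj f i R.unop).op
     naturality := fun R R' b => by
       refine ConcreteCategory.hom_ext _ _ fun x => ?_
       show (G F).obj.map (proj f i R'.unop).op ((G F).obj.map ((cT f).map b.unop).op x) =
         (G F).obj.map ((cT (i ≫ f)).map ((EtCoh.bc i).map b.unop)).op ((G F).obj.map (proj f i R.unop).op x)
       rw [map_comp', map_comp']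
       refine congrArg (fun k => (G F).obj.map k.op x) (Over.OverMorphism.ext ?_)
       exact (EtCoh.isPullback_bc_map i b.unop).w.symm }⟩

/-- The comparison `i^*(G|T) ⟶ G|Z`. -/
def psi₂ : (EtDesc.pullSh i).obj (GT f F) ⟶ GT (i ≫ f) F :=
  ((EtDesc.adjSh i).homEquiv _ _).symm (phi₂ f F i)

theorem psi₂_eta (R : T.Etale) (x : (GT f F).obj.obj (op R)) :
    (psi₂ f F i).hom.app (op ((EtCoh.bc i).obj R)) (((EtDesc.adjSh i).unit.app (GT f F)).hom.app (op R) x) =
      (G F).obj.map (proj f i R).op x := by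
  have h : (EtDesc.adjSh i).homEquiv _ _ (psi₂ f F i) = phi₂ f F i := Equiv.apply_symm_apply _ _
  rw [Adjunction.homEquiv_unit] at h
  exact congrArg (fun z : GT f F ⟶ (EtDesc.pushSh i).obj (GT (i ≫ f) F) => z.hom.app (op R) x) h

theorem phi_comp : phi f F ≫ (EtDesc.pushSh f).map (phi₂ f F i) ≫ (EtDesc.pushCompSh f i).hom.app (GT (i ≫ f) F) =
    phi (i ≫ f) F := by
  refine Sheaf.hom_ext (NatTrans.ext (funext fun U => ConcreteCategory.hom_ext _ _ fun s => ?_))
  let m := (MorphismProperty.Over.pullbackComp (P := EtCoh.etaleMP) (Q := ⊤) i f).hom.app U.unop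
  show (G F).obj.map ((cT (i ≫ f)).map m).op
    ((G F).obj.map (proj f i ((EtCoh.bc f).obj U.unop)).op (e F (pr f U.unop) s)) = e F (pr (i ≫ f) U.unop) s
  refine (map_comp' F _ _ _).trans ((e_map F _ _ _).trans (congrArg (fun k => e F k s) (Over.OverMorphism.ext ?_)))
  exact (Category.assoc _ _ _).trans (MorphismProperty.Over.pullbackComp_left_fst_fst (P := EtCoh.etaleMP) (Q := ⊤) i f U.unop)

theorem isIso_psi₂ : IsIso (psi₂ f F i) := by
  let adj₂ := ((EtDesc.adjSh f).comp (EtDesc.adjSh i)).ofNatIsoRight (EtDesc.pushCompSh f i)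
  let u := adj₂.leftAdjointUniq (EtDesc.adjSh (i ≫ f))
  haveI := isIso_theta f F
  haveI := isIso_theta (i ≫ f) F
  have key : (EtDesc.pullSh i).map (theta f F) ≫ psi₂ f F i = u.hom.app F ≫ theta (i ≫ f) F := by
    apply (adj₂.homEquiv F (GT (i ≫ f) F)).injective
    rw [Adjunction.homEquiv_naturality_right (f := u.hom.app F), Adjunction.homEquiv_leftAdjointUniq_hom_app,
      ← Adjunction.homEquiv_unit, transpose_theta, ← phi_comp f F i]
    rw [Adjunction.homEquiv_ofNatIsoRight_apply, Adjunction.comp_homEquiv, Equiv.trans_apply,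
      Adjunction.homEquiv_naturality_left, psi₂, Equiv.apply_symm_apply, Adjunction.homEquiv_naturality_right,
      transpose_theta, Category.assoc]
  haveI : IsIso ((EtDesc.pullSh i).map (theta f F) ≫ psi₂ f F i) := key ▸ inferInstance
  exact IsIso.of_isIso_comp_left ((EtDesc.pullSh i).map (theta f F)) _

/-- A section of the big sheaf on `Z` comes from the inverse image. -/
theorem surjective_psi₂ : Function.Surjective ((psi₂ f F i).hom.app (op ((EtCoh.bc i).obj (EtCoh.top T)))) := by
  haveI := isIso_psi₂ f F i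
  exact (ConcreteCategory.bijective_of_isIso
    (((sheafToPresheaf _ _).map (psi₂ f F i)).app (op ((EtCoh.bc i).obj (EtCoh.top T))))).2

end Composite

end Groth.L27.BigSets
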