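import Groth.Agent.L27.BigSets.Pull
import Groth.Agent.L27.H0Proper
import Groth.Agent.L27.EtSite.ConnFibres
import Groth.Agent.L27.SGA1.FieldFibres

/-! # Global sections of the big sheaf of sets over proper schemes over henselian pairs -/

universe u

open CategoryTheory CategoryTheory.Limits AlgebraicGeometry Opposite

set_option autoImplicit false
set_option backward.isDefEq.respectTransparency.types false
set_option linter.style.haveILetI false

noncomputable section

namespace Groth.L27.BigSets

open Groth.L27.Fppf (cT)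

variable {S T Z : Scheme.{u}} (π : T ⟶ S) (F : EtDesc.Sh S) (i : Z ⟶ T)

/-- If sections of the inverse image of `G|T` all come from `T`, so do sections of `G` on `Z`. -/
theorem surjective_restrict_of_eta
    (h : Function.Surjective (EtSite.BC.eta i (GT π F) (EtCoh.top T))) (r : Over.mk (i ≫ π) ⟶ Over.mk π)
    (hr : r.left = i) : Function.Surjective ((G F).obj.map r.op) := by
  intro x
  let E := (cT (i ≫ π)).obj ((EtCoh.bc i).obj (EtCoh.top T))
  let l : E ⟶ Over.mk (i ≫ π) := Over.homMk (pullback.snd (𝟙 T) i) rfl
  let l' : Over.mk (i ≫ π) ⟶ E := Over.homMk (pullback.lift i (𝟙 Z) ((Category.comp_id _).trans (Category.id_comp _).symm))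
    ((Category.assoc _ _ _).symm.trans ((congrArg (· ≫ i ≫ π) (pullback.lift_snd _ _ _)).trans (Category.id_comp _)))
  obtain ⟨σ, hσ⟩ := surjective_psi₂ π F i ((G F).obj.map l.op x)
  obtain ⟨x₀, rfl⟩ := h σ
  have hx₀ : (G F).obj.map (proj π i (EtCoh.top T)).op x₀ = (G F).obj.map l.op x :=
    (psi₂_eta π F i (EtCoh.top T) x₀).symm.trans hσ
  let q : Over.mk π ⟶ (cT π).obj (EtCoh.top T) := Over.homMk (𝟙 T) ((Category.id_comp _).trans (Category.id_comp π))
  refine ⟨(G F).obj.map q.op x₀, ?_⟩
  have e₁ : r ≫ q = l' ≫ proj π i (EtCoh.top T) :=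
    Over.OverMorphism.ext ((congrArg (· ≫ _) hr).trans ((Category.comp_id _).trans (pullback.lift_fst _ _ _).symm))
  have e₂ : l' ≫ l = 𝟙 _ := Over.OverMorphism.ext (pullback.lift_snd _ _ _)
  rw [map_comp', e₁, ← map_comp', hx₀, map_comp', e₂, map_id']

/-- Sections on the special fibre of a proper scheme over a henselian pair extend. -/
theorem surjective_restrict_proper {A : Type u} [CommRing A] (I : Ideal A) [HenselianRing A I]
    (f : T ⟶ Spec (CommRingCat.of A)) [IsProper f] [IsClosedImmersion i]
    (hi : Set.range i = f ⁻¹' PrimeSpectrum.zeroLocus (I : Set A)) (r : Over.mk (i ≫ π) ⟶ Over.mk π)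
    (hr : r.left = i) : Function.Surjective ((G F).obj.map r.op) := by
  refine surjective_restrict_of_eta π F i ?_ r hr
  haveI : CompactSpace T := QuasiCompact.compactSpace_of_compactSpace f
  haveI : QuasiSeparatedSpace T := quasiSeparatedSpace_of_quasiSeparated f
  refine (EtSite.H0Gabber.bijective_of_zariski i (GT π F) fun X' p h G => ?_).2
  haveI := h
  refine ⟨_, ?_, H0Zariski.bijective_unit I (p ≫ f) G⟩
  rw [Scheme.Pullback.range_fst, HenselProper.range_ι, hi, Scheme.Hom.comp_base, TopCat.coe_comp, Set.preimage_comp]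

/-- Sections after an extension of a separably closed base field descend. -/
theorem surjective_restrict_field {k K : Type u} [Field k] [IsSepClosed k] [Field K] [Algebra k K]
    (a : T ⟶ Spec (CommRingCat.of k))
    (r : Over.mk (pullback.fst a (Spec.map (CommRingCat.ofHom (algebraMap k K))) ≫ π) ⟶ Over.mk π)
    (hr : r.left = pullback.fst a (Spec.map (CommRingCat.ofHom (algebraMap k K)))) :
    Function.Surjective ((G F).obj.map r.op) := by
  let m := pullback.fst a (Spec.map (CommRingCat.ofHom (algebraMap k K)))
  refine surjective_restrict_of_eta π F m (EtSite.CF.surjective_eta m (GT π F) (fun Ω _ _ s => ?_) (fun W => ?_) _) r hr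
  · exact SGA1Conn.connectedSpace_fibre a s
  · exact SGA1Conn.univSubmersive_fieldExt a _ _ _ (IsPullback.of_hasPullback W.hom m)

end Groth.L27.BigSets
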