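import Groth.Agent.L27.EtSite.EtaLocal
import Groth.Prelude.Def_SGA4b

/-! # Inverse images commute with the underlying sheaf of sets -/

universe u v w

open CategoryTheory CategoryTheory.Limits AlgebraicGeometry Opposite

set_option autoImplicit false
set_option backward.isDefEq.respectTransparency.types false
set_option linter.style.haveILetI false
set_option linter.unusedSectionVars false

noncomputable section

namespace Groth.L27.BigSets

open Groth.L27.EtSite

variable {A : Type w} [Category.{v} A] {FA : A → A → Type*} {CA : A → Type (u + 1)}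
  [∀ (P Q : A), FunLike (FA P Q) (CA P) (CA Q)] [ConcreteCategory.{u + 1} A FA]
  [HasColimitsOfSize.{u, u} A] [HasProducts.{u} A] [PreservesFilteredColimitsOfSize.{u, u} (forget A)]
  [∀ X : Scheme.{u}, X.smallEtaleTopology.HasSheafCompose (forget A)]
  {S T : Scheme.{u}} (m : T ⟶ S)
  [((EtCoh.bc m).sheafPushforwardContinuous A S.smallEtaleTopology T.smallEtaleTopology).IsRightAdjoint]
  (F : Sheaf S.smallEtaleTopology A)

/-- The sheaf of sets underlying a sheaf. -/
abbrev und : EtDesc.Sh S := (sheafCompose S.smallEtaleTopology (forget A)).obj F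

/-- The unit as a map of sheaves of sets. -/
def phiU : und F ⟶ (EtDesc.pushSh m).obj (und (BC.P m F)) :=
  ⟨{ app := fun U => TypeCat.ofHom fun s => BC.eta m F U.unop s
     naturality := fun _ _ b => ConcreteCategory.hom_ext _ _ fun s => BC.eta_naturality F b.unop s }⟩

/-- The comparison of the inverse images. -/
def chi : (EtDesc.pullSh m).obj (und F) ⟶ und (BC.P m F) :=
  ((EtDesc.adjSh m).homEquiv _ _).symm (phiU m F)

theorem chi_eta (U : S.Etale) (s : ToType (F.obj.obj (op U))) :
    (chi m F).hom.app (op ((EtCoh.bc m).obj U)) (BC.eta m (und F) U s) = BC.eta m F U s := by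
  have h : (EtDesc.adjSh m).homEquiv _ _ (chi m F) = phiU m F := Equiv.apply_symm_apply _ _
  rw [Adjunction.homEquiv_unit] at h
  exact congrArg (fun z : und F ⟶ (EtDesc.pushSh m).obj (und (BC.P m F)) => z.hom.app (op U) s) h

theorem chi_map_eta {Q : T.Etale} {U : S.Etale} (r : Q ⟶ (EtCoh.bc m).obj U) (s : ToType (F.obj.obj (op U))) :
    (chi m F).hom.app (op Q) ((BC.P m (und F)).obj.map r.op (BC.eta m (und F) U s)) =
      (BC.P m F).obj.map r.op (BC.eta m F U s) :=
  (NatTrans.naturality_apply (chi m F).hom r.op _).trans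
    (congrArg ((und (BC.P m F)).obj.map r.op) (chi_eta m F U s))

theorem map_sq {C : Type*} [Category* C] (H : Cᵒᵖ ⥤ Type (u + 1)) {W W₁ W₂ Z : C} (a : W ⟶ W₁) (b : W₁ ⟶ Z)
    (c : W ⟶ W₂) (d : W₂ ⟶ Z) (e : a ≫ b = c ≫ d) (x : H.obj (op Z)) :
    H.map a.op (H.map b.op x) = H.map c.op (H.map d.op x) := by
  rw [← Functor.map_comp_apply, ← Functor.map_comp_apply, ← op_comp, ← op_comp, e]

theorem isIso_chi : IsIso (chi m F) := by
  have h1 : Sheaf.IsLocallyInjective (chi m F) := by
    refine ⟨fun {Q} x y hxy => ?_⟩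
    refine (mem_topology_iff _).2 fun q => ?_
    obtain ⟨W₁, -, Q₁, d₁, i₁, q₁, s₁, hd₁, -, hi₁⟩ :=
      EtaLocal.exists_local m (und F) ((EtCore.bcTopIsTerminal m).from Q.unop) x q
    obtain ⟨W₂, a, Q₂, d₂, i₂, q₂, s₂, hd₂, hia, hi₂⟩ :=
      EtaLocal.exists_local m (und F) i₁ ((BC.P m (und F)).obj.map d₁.op y) q₁
    let d : Q₂ ⟶ Q.unop := d₂ ≫ d₁
    have hx : (BC.P m (und F)).obj.map d.op x =
        (BC.P m (und F)).obj.map i₂.op (BC.eta m (und F) W₂ ((und F).obj.map a.op s₁)) := by
      simp only [d, op_comp, Functor.map_comp, ConcreteCategory.comp_apply]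
      rw [hi₁, BC.eta_naturality]
      exact map_sq _ _ _ _ _ hia.symm _
    have hy : (BC.P m (und F)).obj.map d.op y = (BC.P m (und F)).obj.map i₂.op (BC.eta m (und F) W₂ s₂) := by
      simp only [d, op_comp, Functor.map_comp, ConcreteCategory.comp_apply]
      exact hi₂
    have hA : (BC.P m F).obj.map i₂.op (BC.eta m F W₂ (F.obj.map a.op s₁)) =
        (BC.P m F).obj.map i₂.op (BC.eta m F W₂ s₂) :=
      (chi_map_eta m F i₂ _).symm.trans ((congrArg _ hx.symm).trans
        ((NatTrans.naturality_apply (chi m F).hom d.op x).trans ((congrArg _ hxy).trans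
          ((NatTrans.naturality_apply (chi m F).hom d.op y).symm.trans ((congrArg _ hy).trans (chi_map_eta m F i₂ s₂))))))
    obtain ⟨V', b, v, hv, hb⟩ := EtaLocal.eq_near m F i₂ q₂ _ _ hA
    obtain ⟨w, -, hw⟩ := Scheme.exists_preimage_of_isPullback (EtCoh.isPullback_bc_map m b).flip v (i₂.left q₂) hv
    obtain ⟨R, c₁, c₂, r, hr₁, hr₂, hc⟩ := exists_common i₂ ((EtCoh.bc m).map b) q₂ w hw.symm
    refine ⟨R, c₁ ≫ d, r, ?_, ?_⟩
    · show (BC.P m (und F)).obj.map (c₁ ≫ d).op x = (BC.P m (und F)).obj.map (c₁ ≫ d).op y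
      have k : ∀ σ, (BC.P m (und F)).obj.map c₁.op ((BC.P m (und F)).obj.map i₂.op (BC.eta m (und F) W₂ σ)) =
          (BC.P m (und F)).obj.map c₂.op (BC.eta m (und F) V' ((und F).obj.map b.op σ)) := fun σ => by
        rw [BC.eta_naturality]
        exact map_sq _ _ _ _ _ hc _
      have hb' : (und F).obj.map b.op ((und F).obj.map a.op s₁) = (und F).obj.map b.op s₂ := hb
      rw [op_comp, Functor.map_comp, ConcreteCategory.comp_apply, ConcreteCategory.comp_apply, hx, hy]
      exact (k _).trans ((congrArg (fun z => (BC.P m (und F)).obj.map c₂.op (BC.eta m (und F) V' z)) hb').trans (k _).symm)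
    · refine (Scheme.Hom.comp_apply _ _ _).trans ((congrArg d.left hr₁).trans ?_)
      exact (Scheme.Hom.comp_apply _ _ _).trans ((congrArg d₁.left hd₂).trans hd₁)
  have h2 : Sheaf.IsLocallySurjective (chi m F) := by
    refine ⟨fun {Q} x => ?_⟩
    refine (mem_topology_iff _).2 fun q => ?_
    obtain ⟨W, -, Q', d, i, q', s, hd, -, hi⟩ :=
      EtaLocal.exists_local m F ((EtCore.bcTopIsTerminal m).from Q) x q
    exact ⟨Q', d, q', ⟨(BC.P m (und F)).obj.map i.op (BC.eta m (und F) W s),
      (chi_map_eta m F i s).trans hi.symm⟩, hd⟩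
  exact (Sheaf.isLocallyBijective_iff_isIso (chi m F)).1 ⟨h1, h2⟩

end Groth.L27.BigSets
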