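import Groth.Agent.L27.BigSets.QcqsBC
import Groth.Agent.L27.BigSets.H0
import Groth.Agent.L27.EtSite.BaseChangeIso
import Groth.Agent.L27.StalkRpush.Ring
import Groth.Agent.L27.IndEtalePerm
import Groth.Agent.L20.WeaklyEtale
import Groth.Agent.L05.Henselization.StrictUniq

/-! # Base change along flat morphisms with connected fibres between strictly local schemes -/

universe u

open CategoryTheory CategoryTheory.Limits AlgebraicGeometry Opposite IsLocalRing

set_option autoImplicit false
set_option backward.isDefEq.respectTransparency.types false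
set_option linter.style.haveILetI false

noncomputable section

namespace Groth.L27.BigSets

open Groth.L27.Fppf (cT)

/-- Restriction along a morphism is bijective when inverse image of sections is. -/
theorem bijective_restrict_of_eta {S T Z : Scheme.{u}} (π : T ⟶ S) (F : EtDesc.Sh S) (i : Z ⟶ T)
    (h : Function.Bijective (EtSite.BC.eta i (GT π F) (EtCoh.top T))) (r : Over.mk (i ≫ π) ⟶ Over.mk π)
    (hr : r.left = i) : Function.Bijective ((G F).obj.map r.op) := by
  refine ⟨fun y y' hyy => ?_, surjective_restrict_of_eta π F i h.2 r hr⟩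
  let q : Over.mk π ⟶ (cT π).obj (EtCoh.top T) := Over.homMk (𝟙 T) ((Category.id_comp _).trans (Category.id_comp π))
  let q' : (cT π).obj (EtCoh.top T) ⟶ Over.mk π := Over.homMk (𝟙 T) rfl
  have hq : q ≫ q' = 𝟙 _ := Over.OverMorphism.ext (Category.comp_id _)
  let E := (cT (i ≫ π)).obj ((EtCoh.bc i).obj (EtCoh.top T))
  let l : E ⟶ Over.mk (i ≫ π) := Over.homMk (pullback.snd (𝟙 T) i) rfl
  have e₁ : proj π i (EtCoh.top T) ≫ q' = l ≫ r := by
    apply Over.OverMorphism.ext
    show pullback.fst (𝟙 T) i ≫ 𝟙 T = pullback.snd (𝟙 T) i ≫ r.left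
    rw [hr, pullback.condition]
  haveI := isIso_psi₂ π F i
  have hψ₂ : Function.Injective ((psi₂ π F i).hom.app (op ((EtCoh.bc i).obj (EtCoh.top T)))) :=
    (ConcreteCategory.bijective_of_isIso
      (((sheafToPresheaf _ _).map (psi₂ π F i)).app (op ((EtCoh.bc i).obj (EtCoh.top T))))).1
  have hb : (G F).obj.map q'.op y = (G F).obj.map q'.op y' := by
    refine h.1 (hψ₂ ?_)
    refine (psi₂_eta π F i (EtCoh.top T) _).trans (Eq.trans ?_ (psi₂_eta π F i (EtCoh.top T) _).symm)
    rw [map_comp', map_comp', e₁, ← map_comp', ← map_comp', hyy]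
  have := congrArg ((G F).obj.map q.op) hb
  rwa [map_comp', map_comp', hq, map_id', map_id'] at this

open Groth.L27.StalkRpush (toBase bPt nb)

/-- Geometric fibres of the maps of strictly local schemes induced by a morphism are connected. -/
def ShConnected {X S : Scheme.{u}} (f : X ⟶ S) : Prop :=
  ∀ (x : X) (RS : Type u) [CommRing RS] [IsLocalRing RS] [Algebra (S.presheaf.stalk (f.base x)) RS]
    [IsLocalHom (algebraMap (S.presheaf.stalk (f.base x)) RS)]
    [Hensel.IsStrictHenselization (S.presheaf.stalk (f.base x)) RS]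
    (RX : Type u) [CommRing RX] [IsLocalRing RX] [Algebra (X.presheaf.stalk x) RX]
    [IsLocalHom (algebraMap (X.presheaf.stalk x) RX)] [Hensel.IsStrictHenselization (X.presheaf.stalk x) RX]
    (ψ : RS →+* RX) [IsLocalHom ψ],
    ψ.comp (algebraMap (S.presheaf.stalk (f.base x)) RS) = (algebraMap (X.presheaf.stalk x) RX).comp (f.stalkMap x).hom →
    ∀ (Ω : Type u) [Field Ω] [IsAlgClosed Ω] (η : Spec (CommRingCat.of Ω) ⟶ Spec (CommRingCat.of RS)),
      ConnectedSpace ↥(pullback (Spec.map (CommRingCat.ofHom ψ)) η)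

/-- The maps of strictly local schemes induced by a morphism are universally submersive. -/
def ShSubmersive {X S : Scheme.{u}} (f : X ⟶ S) : Prop :=
  ∀ (x : X) (RS : Type u) [CommRing RS] [IsLocalRing RS] [Algebra (S.presheaf.stalk (f.base x)) RS]
    [IsLocalHom (algebraMap (S.presheaf.stalk (f.base x)) RS)]
    [Hensel.IsStrictHenselization (S.presheaf.stalk (f.base x)) RS]
    (RX : Type u) [CommRing RX] [IsLocalRing RX] [Algebra (X.presheaf.stalk x) RX]
    [IsLocalHom (algebraMap (X.presheaf.stalk x) RX)] [Hensel.IsStrictHenselization (X.presheaf.stalk x) RX]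
    (ψ : RS →+* RX) [IsLocalHom ψ],
    ψ.comp (algebraMap (S.presheaf.stalk (f.base x)) RS) = (algebraMap (X.presheaf.stalk x) RX).comp (f.stalkMap x).hom →
    SGA1.UnivSubmersive (Spec.map (CommRingCat.ofHom ψ))

/-- The data comparing the strictly local schemes at a point and at its image. -/
theorem exists_data {Y Y' : Scheme.{u}} (g : Y' ⟶ Y) (hsubm : ShSubmersive g) (hconn : ShConnected g) (y' : Y') :
    ∃ (B : Type u) (_ : CommRing B) (j : Spec (CommRingCat.of B) ⟶ Y) (_ : IsOpenImmersion j)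
      (K : Type u) (_ : Field K) (_ : IsSepClosed K) (_ : Algebra B K)
      (R : Type u) (_ : CommRing R) (_ : Algebra B R) (e₀ : L05.Henselization.Col B K ≃ₐ[B] R)
      (B' : Type u) (_ : CommRing B') (j' : Spec (CommRingCat.of B') ⟶ Y') (_ : IsOpenImmersion j')
      (K' : Type u) (_ : Field K') (_ : IsSepClosed K') (_ : Algebra B' K')
      (R' : Type u) (_ : CommRing R') (_ : Algebra B' R') (e₁ : L05.Henselization.Col B' K' ≃ₐ[B'] R')
      (ψ : Spec (CommRingCat.of R') ⟶ Spec (CommRingCat.of R))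
      (_ : ψ ≫ toBase B R ≫ j = (toBase B' R' ≫ j') ≫ g)
      (ρ : Spec (CommRingCat.of K') ⟶ Spec (CommRingCat.of K)),
      QC.cpt B' K' R' e₁ ≫ ψ = ρ ≫ QC.cpt B K R e₀ ∧ bPt B' j' K' default = y' ∧
        SGA1.UnivSubmersive ψ ∧
        ∀ (Ω : Type u) [Field Ω] [IsAlgClosed Ω] (η : Spec (CommRingCat.of Ω) ⟶ Spec (CommRingCat.of R)),
          ConnectedSpace ↥(pullback ψ η) := by
  obtain ⟨U, hU, hyU⟩ : ∃ U : Y.Opens, IsAffineOpen U ∧ g.base y' ∈ U := by
    obtain ⟨_, ⟨U, hU, rfl⟩, hyU, -⟩ :=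
      Y.isBasis_affineOpens.exists_subset_of_mem_open (Set.mem_univ (g.base y')) isOpen_univ
    exact ⟨U, hU, hyU⟩
  obtain ⟨U', hU', hyU'⟩ : ∃ U' : Y'.Opens, IsAffineOpen U' ∧ y' ∈ U' := by
    obtain ⟨_, ⟨U', hU', rfl⟩, hyU', -⟩ :=
      Y'.isBasis_affineOpens.exists_subset_of_mem_open (Set.mem_univ y') isOpen_univ
    exact ⟨U', hU', hyU'⟩
  let O := Y.presheaf.stalk (g.base y')
  let O' := Y'.presheaf.stalk y'
  obtain ⟨RS, _, _, _, _, hRS⟩ := L05.Henselization.exists_isStrictHenselization O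
  obtain ⟨RX, _, _, _, _, hRX⟩ := L05.Henselization.exists_isStrictHenselization O'
  haveI := hRS.henselian
  haveI := hRX.henselian
  haveI : IsSepClosed (ResidueField RS) := hRS.isSepClosure.sep_closed
  haveI : IsSepClosed (ResidueField RX) := hRX.isSepClosure.sep_closed
  haveI : Algebra.IsSeparable (ResidueField O) (ResidueField RS) := hRS.isSepClosure.separable
  let φ : O →+* RX := (algebraMap O' RX).comp (g.stalkMap y').hom
  haveI : IsLocalHom φ := RingHom.isLocalHom_comp _ _
  letI : Algebra (ResidueField O) (ResidueField RX) := (ResidueField.map φ).toAlgebra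
  let τ : ResidueField RS →ₐ[ResidueField O] ResidueField RX := IsSepClosed.lift
  obtain ⟨ψr, ⟨hψr, hψres⟩, -⟩ := hRS.universal RX φ τ.toRingHom τ.comp_algebraMap
  haveI : IsLocalHom ψr := ⟨fun s hs => by
    by_contra h
    have h0 : residue RS s = 0 := (residue_eq_zero_iff s).mpr ((mem_maximalIdeal s).mpr h)
    have h2 := hψres s
    rw [h0, map_zero, residue_eq_zero_iff] at h2
    exact (mem_maximalIdeal _).mp h2 hs⟩
  letI : Algebra Γ(Y, U) O := (Y.presheaf.germ U (g.base y') hyU).hom.toAlgebra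
  haveI : IsLocalization.AtPrime O (hU.primeIdealOf ⟨g.base y', hyU⟩).asIdeal :=
    hU.isLocalization_stalk ⟨g.base y', hyU⟩
  letI : Algebra Γ(Y, U) RS := ((algebraMap O RS).comp (Y.presheaf.germ U (g.base y') hyU).hom).toAlgebra
  haveI : IsScalarTower Γ(Y, U) O RS := IsScalarTower.of_algebraMap_eq' rfl
  obtain ⟨e₀, he₀⟩ := StalkRpush.exists_algEquiv Γ(Y, U) (hU.primeIdealOf ⟨g.base y', hyU⟩).asIdeal O RS
  letI : Algebra Γ(Y', U') O' := (Y'.presheaf.germ U' y' hyU').hom.toAlgebra
  haveI : IsLocalization.AtPrime O' (hU'.primeIdealOf ⟨y', hyU'⟩).asIdeal := hU'.isLocalization_stalk ⟨y', hyU'⟩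
  letI : Algebra Γ(Y', U') RX := ((algebraMap O' RX).comp (Y'.presheaf.germ U' y' hyU').hom).toAlgebra
  haveI : IsScalarTower Γ(Y', U') O' RX := IsScalarTower.of_algebraMap_eq' rfl
  obtain ⟨e₁, he₁⟩ := StalkRpush.exists_algEquiv Γ(Y', U') (hU'.primeIdealOf ⟨y', hyU'⟩).asIdeal O' RX
  have hη : toBase Γ(Y, U) RS ≫ hU.fromSpec =
      Spec.map (CommRingCat.ofHom (algebraMap O RS)) ≫ Y.fromSpecStalk (g.base y') := by
    rw [← hU.fromSpecStalk_eq_fromSpecStalk hyU]
    symm
    show Spec.map (CommRingCat.ofHom (algebraMap O RS)) ≫ Spec.map (Y.presheaf.germ U (g.base y') hyU) ≫ hU.fromSpec = _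
    rw [← Spec.map_comp_assoc]
    rfl
  have hη' : toBase Γ(Y', U') RX ≫ hU'.fromSpec =
      Spec.map (CommRingCat.ofHom (algebraMap O' RX)) ≫ Y'.fromSpecStalk y' := by
    rw [← hU'.fromSpecStalk_eq_fromSpecStalk hyU']
    symm
    show Spec.map (CommRingCat.ofHom (algebraMap O' RX)) ≫ Spec.map (Y'.presheaf.germ U' y' hyU') ≫ hU'.fromSpec = _
    rw [← Spec.map_comp_assoc]
    rfl
  have hc₀ : QC.cpt Γ(Y, U) (ResidueField RS) RS e₀ = Spec.map (CommRingCat.ofHom (residue RS)) := by
    refine congrArg (fun g => Spec.map (CommRingCat.ofHom g)) (RingHom.ext fun x => ?_)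
    refine (DFunLike.congr_fun he₀ (e₀.symm x)).symm.trans ?_
    exact congrArg (residue RS) (e₀.apply_symm_apply x)
  have hc₁ : QC.cpt Γ(Y', U') (ResidueField RX) RX e₁ = Spec.map (CommRingCat.ofHom (residue RX)) := by
    refine congrArg (fun g => Spec.map (CommRingCat.ofHom g)) (RingHom.ext fun x => ?_)
    refine (DFunLike.congr_fun he₁ (e₁.symm x)).symm.trans ?_
    exact congrArg (residue RX) (e₁.apply_symm_apply x)
  refine ⟨Γ(Y, U), inferInstance, hU.fromSpec, inferInstance, ResidueField RS, inferInstance, inferInstance, inferInstance,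
    RS, inferInstance, inferInstance, e₀, Γ(Y', U'), inferInstance, hU'.fromSpec, inferInstance, ResidueField RX,
    inferInstance, inferInstance, inferInstance, RX, inferInstance, inferInstance, e₁,
    Spec.map (CommRingCat.ofHom ψr), ?_, Spec.map (CommRingCat.ofHom τ.toRingHom), ?_, ?_, ?_, ?_⟩
  · rw [hη, hη', Category.assoc, ← Scheme.SpecMap_stalkMap_fromSpecStalk, ← Spec.map_comp_assoc, ← Spec.map_comp_assoc]
    refine congrArg (fun q => Spec.map q ≫ _) (CommRingCat.hom_ext ?_)
    exact hψr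
  · rw [hc₀, hc₁, ← Spec.map_comp, ← Spec.map_comp]
    refine congrArg Spec.map (CommRingCat.hom_ext (RingHom.ext fun x => ?_))
    exact hψres x
  · have hb : bPt Γ(Y', U') hU'.fromSpec (ResidueField RX) =
        Spec.map (CommRingCat.ofHom (residue RX)) ≫ Spec.map (CommRingCat.ofHom (algebraMap O' RX)) ≫ Y'.fromSpecStalk y' := by
      rw [← hη', ← hc₁, ← Category.assoc, QC.cpt_toBase]
    rw [hb, Scheme.Hom.comp_apply, Scheme.Hom.comp_apply]
    have h1 : (Spec.map (CommRingCat.ofHom (algebraMap O' RX)))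
        ((Spec.map (CommRingCat.ofHom (residue RX))) default) = closedPoint O' := by
      have h2 : (Spec.map (CommRingCat.ofHom (residue RX))) default = closedPoint RX := by
        rw [show (default : Spec (CommRingCat.of (ResidueField RX))) = closedPoint (ResidueField RX) from
          Subsingleton.elim _ _]
        exact IsLocalRing.comap_closedPoint (residue RX)
      rw [h2]
      exact IsLocalRing.comap_closedPoint (algebraMap O' RX)
    rw [h1]
    exact Scheme.fromSpecStalk_closedPoint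
  · exact hsubm y' RS RX ψr hψr
  · intro Ω _ _ η
    exact hconn y' RS RX ψr hψr Ω η

/-- Flat morphisms induce universally submersive maps of strictly local schemes. -/
theorem shSubmersive_of_flat {X S : Scheme.{u}} (f : X ⟶ S) [Flat f] : ShSubmersive f := by
  intro x RS _ _ _ _ _ RX _ _ _ _ _ ψ _ hψ
  let O := S.presheaf.stalk (f.base x)
  let O' := X.presheaf.stalk x
  letI : Algebra O RX := ((algebraMap O' RX).comp (f.stalkMap x).hom).toAlgebra
  letI : Algebra RS RX := ψ.toAlgebra
  haveI : IsLocalHom (algebraMap RS RX) := ‹IsLocalHom ψ›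
  haveI : IsScalarTower O RS RX := IsScalarTower.of_algebraMap_eq' hψ.symm
  haveI : Algebra.WeaklyEtale O RS :=
    Groth.L27.IndEtale.weaklyEtale _ _ (L05.Henselization.isIndEtale_of_isStrictHenselization O RS)
  letI : Algebra O O' := (f.stalkMap x).hom.toAlgebra
  haveI : IsScalarTower O O' RX := IsScalarTower.of_algebraMap_eq' rfl
  haveI : Module.Flat O O' := Flat.stalkMap f x
  haveI : Module.Flat O' RX := L05.Henselization.flat_of_isStrictHenselization O' RX
  haveI : Module.Flat O RX := Module.Flat.trans O O' RX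
  haveI : Module.Flat RS RX :=
    Groth.L20.flat_of_flat_of_flat_lmul (R := O) (T := RS) (M := RX) (Algebra.WeaklyEtale.flat_lmul' O RS)
  haveI : Module.FaithfullyFlat RS RX := Module.FaithfullyFlat.of_flat_of_isLocalHom
  haveI : Flat (Spec.map (CommRingCat.ofHom ψ)) :=
    (HasRingHomProperty.Spec_iff (P := @Flat)).mpr (RingHom.flat_algebraMap_iff.mpr ‹Module.Flat RS RX›)
  haveI : Surjective (Spec.map (CommRingCat.ofHom ψ)) := ⟨PrimeSpectrum.comap_surjective_of_faithfullyFlat⟩
  exact L27.TopInv.univSubmersive_of_fpqc _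

variable {X Y X' Y' : Scheme.{u}} {f : X ⟶ Y} {g : Y' ⟶ Y} {f' : X' ⟶ Y'} {g' : X' ⟶ X}
  (h : IsPullback g' f' f g)

theorem bijective_mm (B : Type u) [CommRing B] (j : Spec (CommRingCat.of B) ⟶ Y)
    (R : Type u) [CommRing R] [Algebra B R]
    (B' : Type u) [CommRing B'] (j' : Spec (CommRingCat.of B') ⟶ Y')
    (R' : Type u) [CommRing R'] [Algebra B' R']
    (ψ : Spec (CommRingCat.of R') ⟶ Spec (CommRingCat.of R)) (hψs : SGA1.UnivSubmersive ψ)
    (hψ : ψ ≫ toBase B R ≫ j = (toBase B' R' ≫ j') ≫ g)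
    (hc : ∀ (Ω : Type u) [Field Ω] [IsAlgClosed Ω] (η : Spec (CommRingCat.of Ω) ⟶ Spec (CommRingCat.of R)),
      ConnectedSpace ↥(pullback ψ η))
    (F : EtDesc.Sh X) : Function.Bijective ((G F).obj.map (QC.mm h B j R B' j' R' ψ hψ).op) := by
  let η := toBase B R ≫ j
  let η' := toBase B' R' ≫ j'
  let m : pullback f' η' ⟶ pullback f η := (QC.mm h B j R B' j' R' ψ hψ).left
  have hm1 : m ≫ pullback.fst f η = pullback.fst f' η' ≫ g' := pullback.lift_fst _ _ _
  have hm2 : m ≫ pullback.snd f η = pullback.snd f' η' ≫ ψ := pullback.lift_snd _ _ _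
  have hsq : IsPullback m (pullback.snd f' η') (pullback.snd f η) ψ := by
    refine IsPullback.of_right ?_ hm2 (IsPullback.of_hasPullback f η)
    rw [hm1, hψ]
    exact (IsPullback.of_hasPullback f' η').paste_horiz h
  haveI : SGA1.UnivSubmersive.{u}.IsStableUnderBaseChange :=
    inferInstanceAs (MorphismProperty.universally _).IsStableUnderBaseChange
  have hsub : SGA1.UnivSubmersive m := MorphismProperty.of_isPullback (P := SGA1.UnivSubmersive) hsq.flip hψs
  let π := pullback.fst f η ≫ 𝟙 X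
  have hr := bijective_restrict_of_eta π F m
    ⟨EtSite.CF.injective_eta m (GT π F) (fun Ω _ _ s => ?_) (EtCoh.top _),
     EtSite.CF.surjective_eta m (GT π F) (fun Ω _ _ s => ?_)
      (fun W => hsub _ _ _ (IsPullback.of_hasPullback W.hom m)) (EtCoh.top _)⟩ (Over.homMk m rfl : Over.mk (m ≫ π) ⟶ Over.mk π) rfl
  · have hπ : m ≫ π = pullback.fst f' η' ≫ g' := by rw [← Category.assoc, hm1, Category.comp_id]
    let i : QC.pl f' g' B' j' R' ⟶ Over.mk (m ≫ π) := Over.homMk (𝟙 _) ((Category.id_comp _).trans hπ)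
    let i' : Over.mk (m ≫ π) ⟶ QC.pl f' g' B' j' R' := Over.homMk (𝟙 _) ((Category.id_comp _).trans hπ.symm)
    have hii : i ≫ i' = 𝟙 _ := Over.OverMorphism.ext (Category.comp_id _)
    have hii' : i' ≫ i = 𝟙 _ := Over.OverMorphism.ext (Category.comp_id _)
    have he : QC.mm h B j R B' j' R' ψ hψ = i ≫ (Over.homMk m rfl : Over.mk (m ≫ π) ⟶ Over.mk π) :=
      Over.OverMorphism.ext (Category.id_comp m).symm
    refine ⟨fun y y' hy => hr.1 ?_, fun x => ?_⟩
    · have := congrArg ((G F).obj.map i'.op) hy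
      rwa [he, ← map_comp', ← map_comp', map_comp' F i' i, map_comp' F i' i, hii', map_id', map_id'] at this
    · obtain ⟨y, hy⟩ := hr.2 ((G F).obj.map i'.op x)
      exact ⟨y, by rw [he, ← map_comp', hy, map_comp', hii, map_id']⟩
  all_goals
    haveI := hc Ω (s ≫ pullback.snd f η)
    let e := ((IsPullback.of_hasPullback m s).flip.paste_vert hsq).flip.isoPullback
    exact (e ≪≫ Iso.refl _).inv.homeomorph.surjective.connectedSpace (e ≪≫ Iso.refl _).inv.continuous

/-- A morphism of abelian sheaves bijective at one geometric point over each point is an isomorphism. -/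
theorem isIso_ab_of_some_stalks {S : Scheme.{u}} {A B : EtCoh.Ab S} (φ : A ⟶ B)
    (h : ∀ x : S, ∃ (Ω : Type u) (_ : Field Ω) (_ : IsSepClosed Ω) (ξ : Spec (CommRingCat.of Ω) ⟶ S),
      ξ.base default = x ∧ Function.Bijective ((Scheme.pointSmallEtale ξ).sheafFiber.map φ)) : IsIso φ := by
  haveI : Sheaf.IsLocallyInjective φ := EtSite.isLocallyInjective_of_some_stalks φ.hom fun x => by
    obtain ⟨K, _, _, θ, hθ, hb⟩ := h x
    exact ⟨K, inferInstance, inferInstance, θ, hθ, hb.1⟩
  haveI : Sheaf.IsLocallySurjective φ := EtSite.isLocallySurjective_of_some_stalks φ.hom fun x => by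
    obtain ⟨K, _, _, θ, hθ, hb⟩ := h x
    exact ⟨K, inferInstance, inferInstance, θ, hθ, hb.2⟩
  haveI : Mono φ := Sheaf.mono_of_isLocallyInjective φ
  haveI : Epi φ := (Sheaf.isLocallySurjective_iff_epi' (φ := φ)).1 inferInstance
  exact isIso_of_mono_of_epi φ

variable [QuasiCompact f] [QuasiSeparated f] (hsubm : ShSubmersive g) (hconn : ShConnected g)

include h hsubm hconn in
theorem exists_bijective_stalk_sets (F : EtDesc.Sh X) (y' : Y') :
    ∃ (Ω : Type u) (_ : Field Ω) (_ : IsSepClosed Ω) (η' : Spec (CommRingCat.of Ω) ⟶ Y'), η'.base default = y' ∧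
      Function.Bijective ((Scheme.pointSmallEtale η').sheafFiber.map (EtBC.baseChange0Sh f g f' g' h.w F)) := by
  haveI : QuasiCompact f' := MorphismProperty.of_isPullback h inferInstance
  haveI : QuasiSeparated f' := MorphismProperty.of_isPullback h inferInstance
  obtain ⟨B, _, j, _, K, _, _, _, R, _, _, e₀, B', _, j', _, K', _, _, _, R', _, _, e₁, ψ, hψ, ρ, hρ, hy, hs, hc⟩ :=
    exists_data g hsubm hconn y'
  refine ⟨K', inferInstance, inferInstance, _, hy, ?_⟩
  refine QC.bijective_stalk h B j K R e₀ B' j' K' R' e₁ ψ hψ ρ hρ F (bijective_mm h B j R B' j' R' ψ hs hψ hc _) _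
    fun V s => ?_
  rw [EtBC.baseChange0Sh, Equiv.apply_symm_apply, EtSite.BC.psi, ← EtSite.BC.swap_eq h.w V]
  exact EtSite.BC.map_map_map (EtSite.BC.P g' F).obj _ _ _ _

include h hsubm hconn in
/-- Base change for sheaves of sets, universally submersive form. -/
theorem isIso_baseChange0Sh_of_shSubmersive (F : EtDesc.Sh X) :
    IsIso (EtBC.baseChange0Sh f g f' g' h.w F) :=
  EtSite.isIso_of_some_stalks _ (exists_bijective_stalk_sets h hsubm hconn F)

include h hsubm hconn in
/-- Base change for abelian sheaves, universally submersive form. -/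
theorem isIso_baseChange0_of_shSubmersive (F : EtCoh.Ab X) :
    IsIso (EtCoh.baseChange0 f g f' g' h.w F) := by
  refine isIso_ab_of_some_stalks _ fun y' => ?_
  haveI : QuasiCompact f' := MorphismProperty.of_isPullback h inferInstance
  haveI : QuasiSeparated f' := MorphismProperty.of_isPullback h inferInstance
  obtain ⟨B, _, j, _, K, _, _, _, R, _, _, e₀, B', _, j', _, K', _, _, _, R', _, _, e₁, ψ, hψ, ρ, hρ, hy, hs, hc⟩ :=
    exists_data g hsubm hconn y'
  refine ⟨K', inferInstance, inferInstance, _, hy, ?_⟩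
  refine QC.bijective_stalk h B j K R e₀ B' j' K' R' e₁ ψ hψ ρ hρ F (bijective_mm h B j R B' j' R' ψ hs hψ hc _) _
    fun V s => ?_
  rw [EtCoh.baseChange0, Equiv.apply_symm_apply, EtSite.BC.psi, ← EtSite.BC.swap_eq h.w V]
  exact EtSite.BC.map_map_map (EtSite.BC.P g' F).obj _ _ _ _

omit hsubm in
include h hconn in
/-- Base change for sheaves of sets. -/
theorem isIso_baseChange0Sh_of_shConnected [Flat g] (F : EtDesc.Sh X) :
    IsIso (EtBC.baseChange0Sh f g f' g' h.w F) :=
  isIso_baseChange0Sh_of_shSubmersive h (shSubmersive_of_flat g) hconn F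

omit hsubm in
include h hconn in
/-- Base change for abelian sheaves. -/
theorem isIso_baseChange0_of_shConnected [Flat g] (F : EtCoh.Ab X) :
    IsIso (EtCoh.baseChange0 f g f' g' h.w F) :=
  isIso_baseChange0_of_shSubmersive h (shSubmersive_of_flat g) hconn F

end Groth.L27.BigSets
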