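import Groth.Prelude.Def_SGA4b
import Groth.Agent.L27.Fppf.Descent
import Groth.Agent.L27.EtSite.Common

/-! # The big etale sheaf attached to a sheaf of sets on the small etale site -/

universe u

open CategoryTheory CategoryTheory.Limits AlgebraicGeometry Opposite

set_option autoImplicit false
set_option backward.isDefEq.respectTransparency.types false
set_option linter.style.haveILetI false

noncomputable section

namespace Groth.L27.BigSets

open Groth.L27.Fppf (Jet mem_Jet exists_pullback comp_left_apply etale_comp etale_a_map)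

variable {S : Scheme.{u}} (F : EtDesc.Sh S)

/-- The presheaf pullback to the big site. -/
abbrev L : (Over S)ᵒᵖ ⥤ Type (u + 1) := (EtFppf.a S).op.lan.obj F.obj

/-- Elements of the presheaf pullback. -/
def el {T : Over S} {U : S.Etale} (c : T ⟶ (EtFppf.a S).obj U) :
    F.obj.obj (op U) ⟶ (L F).obj (op T) :=
  ((EtFppf.a S).op.lanUnit.app F.obj).app (op U) ≫ (L F).map c.op

theorem el_map {T T' : Over S} (g : T' ⟶ T) {U : S.Etale} (c : T ⟶ (EtFppf.a S).obj U) (s : F.obj.obj (op U)) :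
    (L F).map g.op (el F c s) = el F (g ≫ c) s :=
  (Functor.map_comp_apply (L F) c.op g.op _).symm

theorem el_nat {T : Over S} {U U' : S.Etale} (b : U' ⟶ U) (c : T ⟶ (EtFppf.a S).obj U') (s : F.obj.obj (op U)) :
    el F c (F.obj.map b.op s) = el F (c ≫ (EtFppf.a S).map b) s := by
  rw [← el_map]
  exact congrArg ((L F).map c.op) (NatTrans.naturality_apply ((EtFppf.a S).op.lanUnit.app F.obj) b.op s)

theorem el_surj {T : Over S} (z : (L F).obj (op T)) :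
    ∃ (U : S.Etale) (c : T ⟶ (EtFppf.a S).obj U) (s : F.obj.obj (op U)), el F c s = z := by
  have hpt := Functor.isPointwiseLeftKanExtensionOfIsLeftKanExtension (L F)
    ((EtFppf.a S).op.lanUnit.app F.obj) (op T)
  obtain ⟨g, s, rfl⟩ := Concrete.isColimit_exists_rep _ hpt z
  exact ⟨g.left.unop, g.hom.unop, s, rfl⟩

theorem el_eq {T : Over S} {U₁ U₂ : S.Etale} (c₁ : T ⟶ (EtFppf.a S).obj U₁) (c₂ : T ⟶ (EtFppf.a S).obj U₂)
    (s₁ : F.obj.obj (op U₁)) (s₂ : F.obj.obj (op U₂)) (h : el F c₁ s₁ = el F c₂ s₂) :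
    ∃ (U' : S.Etale) (b₁ : U' ⟶ U₁) (b₂ : U' ⟶ U₂) (c' : T ⟶ (EtFppf.a S).obj U'),
      c' ≫ (EtFppf.a S).map b₁ = c₁ ∧ c' ≫ (EtFppf.a S).map b₂ = c₂ ∧
        F.obj.map b₁.op s₁ = F.obj.map b₂.op s₂ := by
  have hpt := Functor.isPointwiseLeftKanExtensionOfIsLeftKanExtension (L F)
    ((EtFppf.a S).op.lanUnit.app F.obj) (op T)
  obtain ⟨j, g, g', hg⟩ := (Concrete.isColimit_rep_eq_iff_exists _ (i := CostructuredArrow.mk (S := (EtFppf.a S).op) c₁.op)
    (j := CostructuredArrow.mk (S := (EtFppf.a S).op) c₂.op) hpt s₁ s₂).mp h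
  exact ⟨j.left.unop, g.left.unop, g'.left.unop, j.hom.unop, congrArg Quiver.Hom.unop (CostructuredArrow.w g),
    congrArg Quiver.Hom.unop (CostructuredArrow.w g'), hg⟩

/-- The big etale sheaf attached to `F`. -/
abbrev G : Sheaf (Jet S) (Type (u + 1)) := (presheafToSheaf (Jet S) (Type (u + 1))).obj (L F)

/-- The section of the big sheaf given by a map to an etale scheme and a section there. -/
def e {T : Over S} {U : S.Etale} (c : T ⟶ (EtFppf.a S).obj U) :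
    F.obj.obj (op U) ⟶ (G F).obj.obj (op T) :=
  el F c ≫ (toSheafify (Jet S) (L F)).app (op T)

theorem e_map {T T' : Over S} (g : T' ⟶ T) {U : S.Etale} (c : T ⟶ (EtFppf.a S).obj U) (s : F.obj.obj (op U)) :
    (G F).obj.map g.op (e F c s) = e F (g ≫ c) s :=
  (NatTrans.naturality_apply (toSheafify (Jet S) (L F)) g.op _).symm.trans
    (congrArg ((toSheafify (Jet S) (L F)).app (op T')) (el_map F g c s))

theorem e_nat {T : Over S} {U U' : S.Etale} (b : U' ⟶ U) (c : T ⟶ (EtFppf.a S).obj U') (s : F.obj.obj (op U)) :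
    e F c (F.obj.map b.op s) = e F (c ≫ (EtFppf.a S).map b) s :=
  congrArg ((toSheafify (Jet S) (L F)).app (op T)) (el_nat F b c s)

theorem map_comp' {T T' T'' : Over S} (i : T'' ⟶ T') (j : T' ⟶ T) (x : (G F).obj.obj (op T)) :
    (G F).obj.map i.op ((G F).obj.map j.op x) = (G F).obj.map (i ≫ j).op x :=
  (Functor.map_comp_apply (G F).obj j.op i.op x).symm

theorem map_id' {T : Over S} (x : (G F).obj.obj (op T)) : (G F).obj.map (𝟙 T).op x = x :=
  congr($((G F).obj.map_id (op T)) x)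

theorem exists_e {T : Over S} (x : (G F).obj.obj (op T)) (t : T.left) :
    ∃ (T' : Over S) (g : T' ⟶ T) (t' : T'.left) (U : S.Etale) (c : T' ⟶ (EtFppf.a S).obj U)
      (s : F.obj.obj (op U)), AlgebraicGeometry.Etale g.left ∧ g.left t' = t ∧
        (G F).obj.map g.op x = e F c s := by
  obtain ⟨T', g, t', ⟨z, hz⟩, hg, ht⟩ :=
    mem_Jet.1 (Presheaf.imageSieve_mem (Jet S) (toSheafify (Jet S) (L F)) x) t
  obtain ⟨U, c, s, rfl⟩ := el_surj F z
  exact ⟨T', g, t', U, c, s, hg, ht, hz.symm⟩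

theorem exists_of_e_eq {T : Over S} {U₁ U₂ : S.Etale} (c₁ : T ⟶ (EtFppf.a S).obj U₁) (c₂ : T ⟶ (EtFppf.a S).obj U₂)
    (s₁ : F.obj.obj (op U₁)) (s₂ : F.obj.obj (op U₂)) (h : e F c₁ s₁ = e F c₂ s₂) (t : T.left) :
    ∃ (T' : Over S) (g : T' ⟶ T) (t' : T'.left) (U' : S.Etale) (b₁ : U' ⟶ U₁) (b₂ : U' ⟶ U₂)
      (c' : T' ⟶ (EtFppf.a S).obj U'),
      AlgebraicGeometry.Etale g.left ∧ g.left t' = t ∧ c' ≫ (EtFppf.a S).map b₁ = g ≫ c₁ ∧
        c' ≫ (EtFppf.a S).map b₂ = g ≫ c₂ ∧ F.obj.map b₁.op s₁ = F.obj.map b₂.op s₂ := by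
  obtain ⟨T', g, t', hz, hg, ht⟩ := mem_Jet.1 (Presheaf.equalizerSieve_mem (Jet S) (toSheafify (Jet S) (L F))
    (el F c₁ s₁) (el F c₂ s₂) h) t
  obtain ⟨U', b₁, b₂, c', h₁, h₂, hs⟩ := el_eq F (g ≫ c₁) (g ≫ c₂) s₁ s₂
    ((el_map F g c₁ s₁).symm.trans (hz.trans (el_map F g c₂ s₂)))
  exact ⟨T', g, t', U', b₁, b₂, c', hg, ht, h₁, h₂, hs⟩

/-- Sections equal near every point are equal. -/
theorem eq_of_locally {T : Over S} (x y : (G F).obj.obj (op T))
    (h : ∀ t : T.left, ∃ (T' : Over S) (g : T' ⟶ T) (t' : T'.left),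
      AlgebraicGeometry.Etale g.left ∧ g.left t' = t ∧ (G F).obj.map g.op x = (G F).obj.map g.op y) : x = y := by
  let R : Sieve T :=
    { arrows := fun T' g => (G F).obj.map g.op x = (G F).obj.map g.op y
      downward_closed := fun {Y Z g} hg k => by
        show (G F).obj.map (k ≫ g).op x = (G F).obj.map (k ≫ g).op y
        rw [← map_comp', hg, map_comp'] }
  refine Sheaf.isSeparated (G F) T R (mem_Jet.2 fun t => ?_) x y fun T' g hg => hg
  obtain ⟨T', g, t', h1, h2, h3⟩ := h t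
  exact ⟨T', g, t', h3, h1, h2⟩

/-- Two sections agree on an etale neighbourhood of a point. -/
def EqNear {T : Over S} (x y : (G F).obj.obj (op T)) (t : T.left) : Prop :=
  ∃ (T' : Over S) (g : T' ⟶ T) (t' : T'.left),
    AlgebraicGeometry.Etale g.left ∧ g.left t' = t ∧ (G F).obj.map g.op x = (G F).obj.map g.op y

theorem eq_of_eqNear {T : Over S} (x y : (G F).obj.obj (op T)) (h : ∀ t, EqNear F x y t) : x = y :=
  eq_of_locally F x y h

theorem eqNear_of_eq {T : Over S} (x y : (G F).obj.obj (op T)) (h : x = y) (t : T.left) : EqNear F x y t :=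
  ⟨T, 𝟙 T, t, inferInstanceAs (AlgebraicGeometry.Etale (𝟙 T.left)), rfl, by rw [h]⟩

/-- Agreement near a point is reflected by pullback. -/
theorem EqNear.of_map {T T' : Over S} (g : T' ⟶ T) (x y : (G F).obj.obj (op T)) (t' : T'.left)
    (hx : EqNear F ((G F).obj.map g.op x) ((G F).obj.map g.op y) t') : EqNear F x y (g.left t') := by
  obtain ⟨T₁, h, t₁, hh, rfl, hx⟩ := hx
  obtain ⟨P₁, p₁, q₁, U₁, c₁, s₁, hp₁, hq₁, hs₁⟩ := exists_e F x (g.left (h.left t₁))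
  obtain ⟨P₂, p₂, q₂, U₂, c₂, s₂, hp₂, hq₂, hs₂⟩ := exists_e F y (g.left (h.left t₁))
  -- a common etale neighbourhood of the two representatives
  obtain ⟨P, k₁, k₂, hk, hP, -⟩ := exists_pullback p₁ p₂
  obtain ⟨p₀, hp₀, -⟩ := Scheme.exists_preimage_of_isPullback hP q₁ q₂ (hq₁.trans hq₂.symm)
  haveI := hp₁; haveI := hp₂
  haveI : AlgebraicGeometry.Etale k₁.left :=
    MorphismProperty.of_isPullback (P := EtCoh.etaleMP.{u}) hP.flip hp₂
  haveI hp : AlgebraicGeometry.Etale (k₁ ≫ p₁).left := etale_comp _ _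
  obtain ⟨Q, a, b, hab, hQ, -⟩ := exists_pullback (h ≫ g) (k₁ ≫ p₁)
  have hk₁ : (k₁ ≫ p₁).left p₀ = g.left (h.left t₁) := by rw [comp_left_apply, hp₀, hq₁]
  obtain ⟨q, hq, hq'⟩ := Scheme.exists_preimage_of_isPullback hQ t₁ p₀ ((comp_left_apply h g t₁).trans hk₁.symm)
  have h0 : e F (b ≫ k₁ ≫ c₁) s₁ = e F (b ≫ k₂ ≫ c₂) s₂ := by
    rw [← e_map, ← e_map, ← e_map, ← e_map, ← hs₁, ← hs₂, map_comp', map_comp', map_comp', map_comp',
      show (b ≫ k₂) ≫ p₂ = a ≫ h ≫ g by rw [Category.assoc, ← hk, hab],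
      show (b ≫ k₁) ≫ p₁ = a ≫ h ≫ g by rw [Category.assoc, hab], ← map_comp' F a, ← map_comp' F a, ← map_comp' F h g x,
      ← map_comp' F h g y, hx]
  obtain ⟨Q', k, q', U', β₁, β₂, c', hkk, hkq, hc₁, hc₂, hs⟩ := exists_of_e_eq F _ _ s₁ s₂ h0 q
  -- the locus in `P` where the two maps lift to `U'`
  obtain ⟨R, r₁, r₂, hr, hR, hlift⟩ := exists_pullback (k₁ ≫ c₁) ((EtFppf.a S).map β₁)
  obtain ⟨R', r₁', r₂', hr', hR', hlift'⟩ := exists_pullback (k₂ ≫ c₂) ((EtFppf.a S).map β₂)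
  obtain ⟨l, hl, hl₂⟩ := hlift Q' (k ≫ b) c' ((Category.assoc _ _ _).trans hc₁.symm)
  obtain ⟨l', hl', hl₂'⟩ := hlift' Q' (k ≫ b) c' ((Category.assoc _ _ _).trans hc₂.symm)
  haveI : AlgebraicGeometry.Etale r₁.left :=
    MorphismProperty.of_isPullback (P := EtCoh.etaleMP.{u}) hR.flip (etale_a_map β₁)
  haveI : AlgebraicGeometry.Etale r₁'.left :=
    MorphismProperty.of_isPullback (P := EtCoh.etaleMP.{u}) hR'.flip (etale_a_map β₂)
  -- the equalizer of the two lifts to `U'` is open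
  obtain ⟨E, m, m', hm, hE, hElift⟩ := exists_pullback r₁ r₁'
  haveI : AlgebraicGeometry.Etale m.left :=
    MorphismProperty.of_isPullback (P := EtCoh.etaleMP.{u}) hE.flip ‹AlgebraicGeometry.Etale r₁'.left›
  obtain ⟨n, hn, hn'⟩ := hElift Q' l l' (hl.trans hl'.symm)
  obtain ⟨D, d₁, d₂, hd, hD, hDlift⟩ := exists_pullback (C := Over.mk (𝟙 S))
    (Over.homMk (U := (EtFppf.a S).obj U') U'.hom (Category.comp_id _))
    (Over.homMk (U := (EtFppf.a S).obj U') U'.hom (Category.comp_id _))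
  obtain ⟨pr, hpr₁, hpr₂⟩ := hDlift E (m ≫ r₂) (m' ≫ r₂') (Over.OverMorphism.ext
    ((Over.w (m ≫ r₂)).trans (Over.w (m' ≫ r₂')).symm))
  obtain ⟨δ, hδ₁, hδ₂⟩ := hDlift ((EtFppf.a S).obj U') (𝟙 _) (𝟙 _) rfl
  haveI : AlgebraicGeometry.Etale U'.hom := U'.prop
  haveI : AlgebraicGeometry.Etale d₁.left := MorphismProperty.of_isPullback (P := EtCoh.etaleMP.{u}) hD.flip
    (inferInstanceAs (AlgebraicGeometry.Etale U'.hom))
  haveI : AlgebraicGeometry.Etale (δ.left ≫ d₁.left) := by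
    rw [show δ.left ≫ d₁.left = 𝟙 U'.left from congrArg (fun z => z.left) hδ₁]
    exact MorphismProperty.id_mem EtCoh.etaleMP.{u} U'.left
  haveI : AlgebraicGeometry.Etale δ.left :=
    MorphismProperty.of_postcomp (W := EtCoh.etaleMP.{u}) (W' := EtCoh.etaleMP.{u}) δ.left d₁.left
      ‹AlgebraicGeometry.Etale d₁.left› ‹AlgebraicGeometry.Etale (δ.left ≫ d₁.left)›
  obtain ⟨Z, z₁, z₂, hz, hZ, hZlift⟩ := exists_pullback pr δ
  haveI : AlgebraicGeometry.Etale z₁.left :=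
    MorphismProperty.of_isPullback (P := EtCoh.etaleMP.{u}) hZ.flip ‹AlgebraicGeometry.Etale δ.left›
  obtain ⟨w, hw, -⟩ := hZlift Q' n c' (by
    obtain ⟨w₀, -, -⟩ := hDlift Q' c' c' rfl
    refine Over.OverMorphism.ext (hD.hom_ext ?_ ?_)
    · refine congrArg (fun z => z.left) (show (n ≫ pr) ≫ d₁ = (c' ≫ δ) ≫ d₁ from ?_)
      rw [Category.assoc, hpr₁, ← Category.assoc, hn, hl₂, Category.assoc, hδ₁, Category.comp_id]
    · refine congrArg (fun z => z.left) (show (n ≫ pr) ≫ d₂ = (c' ≫ δ) ≫ d₂ from ?_)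
      rw [Category.assoc, hpr₂, ← Category.assoc, hn', hl₂', Category.assoc, hδ₂, Category.comp_id])
  haveI : AlgebraicGeometry.Etale (z₁ ≫ m).left := etale_comp _ _
  haveI : AlgebraicGeometry.Etale ((z₁ ≫ m) ≫ r₁).left := etale_comp _ _
  haveI := hp
  refine ⟨Z, ((z₁ ≫ m) ≫ r₁) ≫ k₁ ≫ p₁, w.left q', etale_comp _ _, ?_, ?_⟩
  · have e1 : w ≫ ((z₁ ≫ m) ≫ r₁) = k ≫ b := by
      rw [← Category.assoc, ← Category.assoc, hw, hn, hl]
    rw [comp_left_apply, ← comp_left_apply w, e1, comp_left_apply k b, hkq, hq', hk₁]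
  · have em : z₁ ≫ m ≫ r₂ = z₁ ≫ m' ≫ r₂' := by
      rw [← hpr₁, ← hpr₂, ← Category.assoc, hz, Category.assoc, hδ₁, ← Category.assoc z₁ pr, hz, Category.assoc, hδ₂]
    rw [← map_comp' F _ (k₁ ≫ p₁) x, ← map_comp' F _ (k₁ ≫ p₁) y, ← map_comp' F k₁ p₁ x, hs₁,
      show (G F).obj.map (k₁ ≫ p₁).op y = (G F).obj.map k₂.op ((G F).obj.map p₂.op y) by rw [map_comp', hk],
      hs₂, e_map, e_map, e_map, e_map, Category.assoc, Category.assoc, Category.assoc, Category.assoc, hr,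
      show z₁ ≫ m ≫ r₁ ≫ k₂ ≫ c₂ = z₁ ≫ m' ≫ r₁' ≫ k₂ ≫ c₂ by rw [← Category.assoc m, hm, Category.assoc], hr',
      show z₁ ≫ m' ≫ r₂' ≫ (EtFppf.a S).map β₂ = (z₁ ≫ m ≫ r₂) ≫ (EtFppf.a S).map β₂ by rw [em]; simp only [Category.assoc],
      show z₁ ≫ m ≫ r₂ ≫ (EtFppf.a S).map β₁ = (z₁ ≫ m ≫ r₂) ≫ (EtFppf.a S).map β₁ by simp only [Category.assoc],
      ← e_nat, ← e_nat, hs]

theorem EqNear.map {T T' : Over S} (g : T' ⟶ T) (x y : (G F).obj.obj (op T)) (t' : T'.left)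
    (hx : EqNear F x y (g.left t')) : EqNear F ((G F).obj.map g.op x) ((G F).obj.map g.op y) t' := by
  obtain ⟨T₁, h, t₁, hh, ht₁, hx⟩ := hx
  obtain ⟨Q, a, b, hab, hQ, -⟩ := exists_pullback g h
  obtain ⟨q, hq, -⟩ := Scheme.exists_preimage_of_isPullback hQ t' t₁ ht₁.symm
  haveI := hh
  exact ⟨Q, a, q, MorphismProperty.of_isPullback (P := EtCoh.etaleMP.{u}) hQ.flip hh, hq, by
    rw [map_comp', map_comp', hab, ← map_comp', hx, map_comp']⟩

theorem isOpen_eqNear {T : Over S} (x y : (G F).obj.obj (op T)) : IsOpen {t | EqNear F x y t} := by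
  refine isOpen_iff_forall_mem_open.2 ?_
  rintro _ ⟨T', g, t', hg, rfl, hx⟩
  haveI := hg
  exact ⟨Set.range g.left, by rintro _ ⟨z, rfl⟩; exact ⟨T', g, z, hg, rfl, hx⟩, g.left.isOpenMap.isOpen_range,
    t', rfl⟩

end Groth.L27.BigSets
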