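import Groth.Agent.L27.BigSets.Elem
import Groth.Agent.L27.Fppf.Limit

/-! # Continuity of global sections of the big etale sheaf of sets -/

universe u

open CategoryTheory CategoryTheory.Limits AlgebraicGeometry Opposite TopologicalSpace

set_option autoImplicit false
set_option backward.isDefEq.respectTransparency.types false
set_option linter.style.haveILetI false

namespace Groth.L27.BigSets

open Groth.L27.Fppf (Jet mem_Jet exists_pullback comp_left_apply)
open Groth.L27.Fppf.Lim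

variable {S : Scheme.{u}} (F : EtDesc.Sh S) {I : Type u} [SmallCategory I] [IsCofiltered I] (D : I ⥤ Over S)
  [∀ (j k : I) (f : j ⟶ k), IsAffineHom (D.map f).left] [∀ j, CompactSpace (D.obj j).left]
  (c : Cone D) (hc : IsLimit ((Over.forget S).mapCone c))

include hc in
/-- Sections equal on the limit are equal at some stage. -/
theorem exists_map_eq {i : I} (x x' : (G F).obj.obj (op (D.obj i)))
    (h : (G F).obj.map (c.π.app i).op x = (G F).obj.map (c.π.app i).op x') :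
    ∃ (j : I) (f : j ⟶ i), (G F).obj.map (D.map f).op x = (G F).obj.map (D.map f).op x' := by
  obtain ⟨j, f, hf⟩ := exists_stage_into D c hc ⟨_, isOpen_eqNear F x x'⟩
    (fun t => EqNear.of_map F (c.π.app i) x x' t (eqNear_of_eq F _ _ h t))
  exact ⟨j, f, eq_of_eqNear F _ _ fun z => EqNear.map F _ x x' z (hf z)⟩

include hc in
/-- The variant for a quasi-compact base change. -/
theorem exists_map_eq_pb {i : I} {Q : Over S} (p : Q ⟶ D.obj i) [QuasiCompact p.left]
    (z z' : (G F).obj.obj (op Q)) (h : (G F).obj.map (coneFst D c p).op z = (G F).obj.map (coneFst D c p).op z') :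
    ∃ (j : I) (f : j ⟶ i), ∀ (W : Over S) (a : W ⟶ Q) (b : W ⟶ D.obj j), a ≫ p = b ≫ D.map f →
      (G F).obj.map a.op z = (G F).obj.map a.op z' := by
  haveI : ∀ (j k : CategoryTheory.Over i) (φ : j ⟶ k), IsAffineHom ((pbDiag D p).map φ).left :=
    fun _ _ φ => isAffineHom_map D p φ
  haveI : ∀ j, CompactSpace ((pbDiag D p).obj j).left := compactSpace_obj D p
  let k₀ : CategoryTheory.Over i := CategoryTheory.Over.mk (𝟙 i)
  obtain ⟨j, φ, hj⟩ := exists_map_eq F (pbDiag D p) (pbCone D c p) (isLimitPbCone D c p hc)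
    (i := k₀) ((G F).obj.map (pbFst D p k₀).op z) ((G F).obj.map (pbFst D p k₀).op z')
    (by rw [map_comp', map_comp', cone_fst, h])
  refine ⟨j.left, j.hom, fun W a b e => ?_⟩
  rw [map_comp', map_comp', pbFst_map] at hj
  obtain ⟨l, hl⟩ : ∃ l : W ⟶ (pbDiag D p).obj j, l ≫ pbFst D p j = a :=
    ⟨Over.homMk (pullback.lift a.left b.left (congrArg (fun w => w.left) e))
      ((Category.assoc _ _ _).symm.trans ((congrArg (· ≫ Q.hom) (pullback.lift_fst _ _ _)).trans (Over.w a))),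
      Over.OverMorphism.ext (pullback.lift_fst _ _ _)⟩
  rw [← hl, ← map_comp', ← map_comp' F l (pbFst D p j) z', hj]

variable [∀ j, QuasiSeparatedSpace (D.obj j).left]

include hc in
/-- Near every point of the limit a section comes from an affine scheme etale over a stage. -/
theorem exists_piece (x : (G F).obj.obj (op c.pt)) (t : c.pt.left) :
    ∃ (i : I) (V : Over S) (p : V ⟶ D.obj i) (y : (G F).obj.obj (op V)) (w : (pbCone D c p).pt.left),
      IsAffine V.left ∧ AlgebraicGeometry.Etale p.left ∧ (coneSnd D c p).left w = t ∧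
        (G F).obj.map (coneFst D c p).op y = (G F).obj.map (coneSnd D c p).op x := by
  obtain ⟨T', g, t', U, e₀, s, hg, rfl, hs⟩ := exists_e F x t
  obtain ⟨i₀⟩ := IsCofiltered.nonempty (C := I)
  obtain ⟨P, a, q, hP', hP, hlift⟩ := exists_pullback (C := Over.mk (𝟙 S))
    (Over.homMk (D.obj i₀).hom (Category.comp_id _))
    (Over.homMk (U := (EtFppf.a S).obj U) U.hom (Category.comp_id _))
  haveI : AlgebraicGeometry.Etale a.left := MorphismProperty.of_isPullback (P := EtCoh.etaleMP.{u}) hP.flip U.prop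
  obtain ⟨m₀, hm₀a, hm₀q⟩ := hlift T' (g ≫ c.π.app i₀) e₀
    (Over.OverMorphism.ext ((Over.w (g ≫ c.π.app i₀)).trans (Over.w e₀).symm))
  obtain ⟨m, hm, hm'⟩ : ∃ m : T' ⟶ (pbCone D c a).pt, m ≫ coneFst D c a = m₀ ∧ m ≫ coneSnd D c a = g :=
    ⟨Over.homMk (pullback.lift m₀.left g.left (congrArg (fun w => w.left) hm₀a))
      ((Category.assoc _ _ _).symm.trans ((congrArg (· ≫ P.hom) (pullback.lift_fst _ _ _)).trans (Over.w m₀))),
      Over.OverMorphism.ext (pullback.lift_fst _ _ _), Over.OverMorphism.ext (pullback.lift_snd _ _ _)⟩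
  haveI := hg
  haveI : AlgebraicGeometry.Etale (coneSnd D c a).left :=
    MorphismProperty.of_isPullback (P := EtCoh.etaleMP.{u}) (isPullback_coneSnd D c a) ‹_›
  haveI : AlgebraicGeometry.Etale (m.left ≫ (coneSnd D c a).left) := by
    rw [show m.left ≫ (coneSnd D c a).left = g.left from congrArg (fun w => w.left) hm']; exact hg
  haveI : AlgebraicGeometry.Etale m.left :=
    MorphismProperty.of_postcomp (W := EtCoh.etaleMP.{u}) (W' := EtCoh.etaleMP.{u}) m.left (coneSnd D c a).left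
      ‹AlgebraicGeometry.Etale (coneSnd D c a).left› ‹AlgebraicGeometry.Etale (m.left ≫ _)›
  let O : (pbCone D c a).pt.left.Opens := ⟨Set.range m.left, m.left.isOpenMap.isOpen_range⟩
  haveI : ∀ (j k : CategoryTheory.Over i₀) (φ : j ⟶ k), IsAffineHom ((pbDiag D a).map φ).left :=
    fun _ _ φ => isAffineHom_map D a φ
  haveI : ∀ {j k : CategoryTheory.Over i₀} (φ : j ⟶ k), IsAffineHom ((pbDiag D a ⋙ Over.forget S).map φ) :=
    fun {_ _} φ => inferInstanceAs (IsAffineHom ((pbDiag D a).map φ).left)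
  have hB := isBasis_preimage_isAffineOpen (pbDiag D a ⋙ Over.forget S) ((Over.forget S).mapCone (pbCone D c a))
      (isLimitPbCone D c a hc)
  obtain ⟨_, ⟨j, V₀, hV₀, rfl⟩, hmV, hVO⟩ := Opens.isBasis_iff_nbhd.mp hB (show m.left t' ∈ O from ⟨t', rfl⟩)
  let V₁ : ((pbDiag D a).obj j).left.Opens := V₀
  let ι₀ : Over.mk (V₁.ι ≫ ((pbDiag D a).obj j).hom) ⟶ (pbDiag D a).obj j := Over.homMk V₁.ι rfl
  let p := ι₀ ≫ pbSnd D a j
  let y := e F (ι₀ ≫ pbFst D a j ≫ q) s
  have hps : AlgebraicGeometry.Etale (pbSnd D a j).left :=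
    MorphismProperty.of_isPullback (P := EtCoh.etaleMP.{u}) (IsPullback.of_hasPullback a.left (D.map j.hom).left) ‹_›
  haveI : AlgebraicGeometry.Etale p.left := inferInstanceAs (AlgebraicGeometry.Etale (V₁.ι ≫ (pbSnd D a j).left))
  -- the piece over the limit maps to `P ×_{D i} c.pt`, landing in `O`
  obtain ⟨l, hl₁, hl₂⟩ : ∃ l : (pbCone D c p).pt ⟶ (pbCone D c a).pt,
      l ≫ coneSnd D c a = coneSnd D c p ∧ l ≫ coneFst D c a = coneFst D c p ≫ ι₀ ≫ pbFst D a j := by
    have e₁ : (coneFst D c p ≫ ι₀ ≫ pbFst D a j) ≫ a = coneSnd D c p ≫ c.π.app i₀ := by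
      rw [Category.assoc, Category.assoc, pb_condition, ← Category.assoc ι₀, ← Category.assoc (coneFst D c p),
        show coneFst D c p ≫ ι₀ ≫ pbSnd D a j = coneSnd D c p ≫ c.π.app j.left from cone_condition D c p,
        Category.assoc, c.w]
    exact ⟨Over.homMk (pullback.lift (coneFst D c p ≫ ι₀ ≫ pbFst D a j).left (coneSnd D c p).left
      (congrArg (fun w => w.left) e₁))
      ((Category.assoc _ _ _).symm.trans ((congrArg (· ≫ P.hom) (pullback.lift_fst _ _ _)).trans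
        (Over.w (coneFst D c p ≫ ι₀ ≫ pbFst D a j)))),
      Over.OverMorphism.ext (pullback.lift_snd _ _ _), Over.OverMorphism.ext (pullback.lift_fst _ _ _)⟩
  have hlV : l ≫ (pbCone D c a).π.app j = coneFst D c p ≫ ι₀ := by
    refine Over.OverMorphism.ext (pullback.hom_ext ?_ ?_)
    · exact congrArg (fun w => w.left) (show (l ≫ (pbCone D c a).π.app j) ≫ pbFst D a j =
        (coneFst D c p ≫ ι₀) ≫ pbFst D a j by rw [Category.assoc, cone_fst, hl₂, Category.assoc])
    · exact congrArg (fun w => w.left) (show (l ≫ (pbCone D c a).π.app j) ≫ pbSnd D a j =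
        (coneFst D c p ≫ ι₀) ≫ pbSnd D a j by
          rw [Category.assoc, cone_snd, ← Category.assoc, hl₁, Category.assoc]
          exact (cone_condition D c p).symm)
  obtain ⟨v, hv⟩ : ∃ v : V₁.toScheme, V₁.ι v = ((pbCone D c a).π.app j).left (m.left t') := ⟨⟨_, hmV⟩, rfl⟩
  have hwp : p.left v = (c.π.app j.left).left (g.left t') := by
    refine (comp_left_apply ι₀ (pbSnd D a j) v).trans ((congrArg (pbSnd D a j).left hv).trans ?_)
    rw [← comp_left_apply, cone_snd, comp_left_apply, ← comp_left_apply m, hm']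
  obtain ⟨w, -, hw⟩ := Scheme.exists_preimage_of_isPullback (isPullback_coneSnd D c p) v (g.left t') hwp
  refine ⟨j.left, _, p, y, w, hV₀, inferInstance, hw, ?_⟩
  refine eq_of_eqNear F _ _ fun z => ?_
  have hzO : l.left z ∈ O := hVO (show ((pbCone D c a).π.app j).left (l.left z) ∈ V₁ by
    rw [← comp_left_apply, hlV, comp_left_apply]
    exact ((coneFst D c p).left z).2)
  obtain ⟨z', hz'⟩ := hzO
  obtain ⟨Z, α, β, hαβ, hZ, -⟩ := exists_pullback l m
  obtain ⟨z₀, hz₀, -⟩ := Scheme.exists_preimage_of_isPullback hZ z z' hz'.symm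
  rw [← hz₀]
  refine EqNear.of_map F α _ _ z₀ (eqNear_of_eq F _ _ ?_ z₀)
  have e₁ : (G F).obj.map α.op ((G F).obj.map (coneFst D c p).op y) = e F (β ≫ e₀) s := by
    rw [map_comp', e_map]
    refine congrArg (fun k => e F k s) ?_
    rw [← hm₀q, ← hm, ← Category.assoc β, ← Category.assoc β, ← hαβ]
    simp only [Category.assoc]
    rw [← Category.assoc l, hl₂]
    simp only [Category.assoc]
  have e₂ : (G F).obj.map α.op ((G F).obj.map (coneSnd D c p).op x) = e F (β ≫ e₀) s := by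
    rw [map_comp', ← hl₁, ← Category.assoc, hαβ, Category.assoc, hm', ← map_comp', hs, e_map]
  rw [e₁, e₂]

include hc in
theorem exists_stage (x : (G F).obj.obj (op c.pt)) :
    ∃ (i : I) (y : (G F).obj.obj (op (D.obj i))), (G F).obj.map (c.π.app i).op y = x := by
  choose i V p y w hV hp hw hxy using exists_piece F D c hc x
  haveI := hp
  haveI : ∀ {j k : I} (f : j ⟶ k), IsAffineHom ((D ⋙ Over.forget S).map f) := fun f =>
    inferInstanceAs (IsAffineHom (D.map f).left)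
  haveI : ∀ j, CompactSpace ((D ⋙ Over.forget S).obj j) := fun j => inferInstanceAs (CompactSpace (D.obj j).left)
  haveI : CompactSpace c.pt.left :=
    Scheme.compactSpace_of_isLimit (D ⋙ Over.forget S) ((Over.forget S).mapCone c) hc
  have hop : ∀ t, IsOpen (Set.range (coneSnd D c (p t)).left) := fun t => by
    haveI : AlgebraicGeometry.Etale (coneSnd D c (p t)).left :=
      MorphismProperty.of_isPullback (P := EtCoh.etaleMP.{u}) (isPullback_coneSnd D c (p t)) (hp t)
    exact (coneSnd D c (p t)).left.isOpenMap.isOpen_range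
  obtain ⟨σ, hσ⟩ := isCompact_univ.elim_finite_subcover _ hop
    (fun t _ => Set.mem_iUnion.2 ⟨t, w t, hw t⟩)
  classical
  obtain ⟨i₁, hi₁⟩ := IsCofiltered.inf_objs_exists (σ.image i)
  let f₁ : ∀ k : σ, i₁ ⟶ i k := fun k => (hi₁ (Finset.mem_image_of_mem i k.2)).some
  -- the pieces over the stage `i₁`
  choose V₁ r₁ v₁ hv hV₁ hlift using fun k : σ => exists_pullback (p k.1) (D.map (f₁ k))
  haveI : ∀ k, AlgebraicGeometry.Etale (v₁ k).left := fun k =>
    MorphismProperty.of_isPullback (P := EtCoh.etaleMP.{u}) (hV₁ k) (hp k.1)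
  haveI : ∀ k, IsAffineHom (r₁ k).left := fun k =>
    MorphismProperty.of_isPullback (P := @IsAffineHom) (hV₁ k).flip inferInstance
  haveI : ∀ k : σ, IsAffine (V k.1).left := fun k => hV k.1
  haveI : ∀ k, IsAffine (V₁ k).left := fun k => isAffine_of_isAffineHom (r₁ k).left
  let y₁ : ∀ k : σ, (G F).obj.obj (op (V₁ k)) := fun k => (G F).obj.map (r₁ k).op (y k.1)
  have key : ∀ (k : σ) (W : Over S) (a : W ⟶ V₁ k) (b : W ⟶ c.pt), a ≫ v₁ k = b ≫ c.π.app i₁ →
      (G F).obj.map a.op (y₁ k) = (G F).obj.map b.op x := by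
    intro k W a b e
    have e' : (a ≫ r₁ k) ≫ p k.1 = b ≫ c.π.app (i k.1) := by
      rw [Category.assoc, hv k, ← Category.assoc, e, Category.assoc, c.w]
    obtain ⟨l, hla, hlb⟩ : ∃ l : W ⟶ (pbCone D c (p k.1)).pt, l ≫ coneFst D c _ = a ≫ r₁ k ∧ l ≫ coneSnd D c _ = b :=
      ⟨Over.homMk (pullback.lift (a ≫ r₁ k).left b.left (congrArg (fun w => w.left) e'))
        ((Category.assoc _ _ _).symm.trans ((congrArg (· ≫ (V k.1).hom) (pullback.lift_fst _ _ _)).trans
          (Over.w (a ≫ r₁ k)))),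
        Over.OverMorphism.ext (pullback.lift_fst _ _ _), Over.OverMorphism.ext (pullback.lift_snd _ _ _)⟩
    show (G F).obj.map a.op ((G F).obj.map (r₁ k).op (y k.1)) = _
    rw [map_comp', ← hla, ← map_comp', hxy, map_comp', hlb]
  -- agreement on overlaps
  have hpair : ∀ kl : σ × σ, ∃ (j : I) (f : j ⟶ i₁), ∀ (W : Over S) (a : W ⟶ V₁ kl.1) (b : W ⟶ V₁ kl.2) (d : W ⟶ D.obj j),
      a ≫ v₁ kl.1 = d ≫ D.map f → b ≫ v₁ kl.2 = d ≫ D.map f →
        (G F).obj.map a.op (y₁ kl.1) = (G F).obj.map b.op (y₁ kl.2) := by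
    rintro ⟨k, l⟩
    obtain ⟨Q, a₀, b₀, hab, hQ, hQl⟩ := exists_pullback (v₁ k) (v₁ l)
    haveI : QuasiCompact (v₁ k).left := inferInstance
    haveI : QuasiCompact (v₁ l).left := inferInstance
    haveI : QuasiCompact a₀.left := MorphismProperty.of_isPullback (P := @QuasiCompact) hQ.flip ‹_›
    haveI : QuasiCompact (a₀ ≫ v₁ k).left := inferInstanceAs (QuasiCompact (a₀.left ≫ (v₁ k).left))
    obtain ⟨j, f, hj⟩ := exists_map_eq_pb F D c hc (a₀ ≫ v₁ k)
      ((G F).obj.map a₀.op (y₁ k)) ((G F).obj.map b₀.op (y₁ l)) (by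
        rw [map_comp' F _ a₀ (y₁ k), map_comp' F _ b₀ (y₁ l),
          key k _ _ (coneSnd D c (a₀ ≫ v₁ k)) ((Category.assoc _ _ _).trans (cone_condition D c _)),
          key l _ _ (coneSnd D c (a₀ ≫ v₁ k)) ((Category.assoc _ _ _).trans
            ((congrArg (_ ≫ ·) hab.symm).trans (cone_condition D c _)))])
    refine ⟨j, f, fun W a b d ha hb => ?_⟩
    obtain ⟨q, hqa, hqb⟩ := hQl W a b (ha.trans hb.symm)
    have h0 := hj W q d (by rw [← Category.assoc, hqa, ha])
    rwa [map_comp' F _ a₀ (y₁ k), map_comp' F _ b₀ (y₁ l), hqa, hqb] at h0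
  choose j₂ f₂ hagree using hpair
  obtain ⟨i₂, F₂, hF₂⟩ : ∃ (i₂ : I) (F₂ : i₂ ⟶ i₁), ∀ kl, ∃ h : i₂ ⟶ j₂ kl, h ≫ f₂ kl = F₂ := by
    let H : Finset (Σ' (a b : I) (_ : a ∈ insert i₁ (Finset.univ.image j₂)) (_ : b ∈ insert i₁ (Finset.univ.image j₂)), a ⟶ b) :=
      Finset.univ.image fun kl => ⟨j₂ kl, i₁, Finset.mem_insert_of_mem (Finset.mem_image_of_mem j₂ (Finset.mem_univ kl)),
        Finset.mem_insert_self _ _, f₂ kl⟩
    obtain ⟨i₂, T, hT⟩ := IsCofiltered.inf_exists (insert i₁ (Finset.univ.image j₂)) H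
    exact ⟨i₂, T (Finset.mem_insert_self _ _), fun kl => ⟨_, hT _ _ (Finset.mem_image_of_mem _ (Finset.mem_univ kl))⟩⟩
  -- the images cover some stage
  let Ω : (D.obj i₁).left.Opens := ⟨⋃ k : σ, Set.range (v₁ k).left,
    isOpen_iUnion fun k => (v₁ k).left.isOpenMap.isOpen_range⟩
  obtain ⟨i₃, f₃, hf₃⟩ := exists_stage_into D c hc Ω (fun t => by
    obtain ⟨k, hk, z, rfl⟩ := Set.mem_iUnion₂.1 (hσ (Set.mem_univ t))
    refine Set.mem_iUnion.2 ⟨⟨k, hk⟩, ?_⟩
    have e' : coneFst D c (p k) ≫ p k = (coneSnd D c (p k) ≫ c.π.app i₁) ≫ D.map (f₁ ⟨k, hk⟩) := by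
      rw [Category.assoc, c.w]; exact cone_condition D c (p k)
    obtain ⟨l, -, hl⟩ := hlift ⟨k, hk⟩ _ (coneFst D c (p k)) (coneSnd D c (p k) ≫ c.π.app i₁) e'
    exact ⟨l.left z, by rw [← comp_left_apply, hl, comp_left_apply]⟩)
  obtain ⟨j, a₂, a₃, ha⟩ := IsCofiltered.cospan F₂ f₃
  let f : j ⟶ i₁ := a₂ ≫ F₂
  -- glue at the stage `j`
  choose V₂ r₂ v₂ hv₂ hV₂ _hl₂ using fun k : σ => exists_pullback (v₁ k) (D.map f)
  haveI : ∀ k, AlgebraicGeometry.Etale (v₂ k).left := fun k =>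
    MorphismProperty.of_isPullback (P := EtCoh.etaleMP.{u}) (hV₂ k) inferInstance
  let R : Presieve (D.obj j) := Presieve.ofArrows V₂ v₂
  have hR : Sieve.generate R ∈ Jet S (D.obj j) := mem_Jet.2 fun z => by
    have hz : (D.map f).left z ∈ Ω := by
      rw [show f = a₃ ≫ f₃ from ha, Functor.map_comp, comp_left_apply]; exact hf₃ _
    obtain ⟨k, u, hu⟩ := Set.mem_iUnion.1 hz
    obtain ⟨q, -, hq⟩ := Scheme.exists_preimage_of_isPullback (hV₂ k) u z hu
    exact ⟨V₂ k, v₂ k, q, Sieve.le_generate R _ _ (Presieve.ofArrows.mk k), inferInstance, hq⟩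
  have hsheaf := ((isSheaf_iff_isSheaf_of_type _ _).1 (G F).property) _ hR
  rw [← Presieve.isSheafFor_iff_generate, Presieve.isSheafFor_arrows_iff] at hsheaf
  obtain ⟨Y, hY, -⟩ := hsheaf (fun k => (G F).obj.map (r₂ k).op (y₁ k)) (by
    intro k l W gk gl e
    obtain ⟨h, hh⟩ := hF₂ (k, l)
    show (G F).obj.map gk.op ((G F).obj.map (r₂ k).op (y₁ k)) = (G F).obj.map gl.op ((G F).obj.map (r₂ l).op (y₁ l))
    rw [map_comp' F gk (r₂ k) (y₁ k), map_comp' F gl (r₂ l) (y₁ l)]
    have hf : D.map f = D.map (a₂ ≫ h) ≫ D.map (f₂ (k, l)) := by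
      rw [← D.map_comp, Category.assoc, hh]
    refine hagree (k, l) W _ _ (gk ≫ v₂ k ≫ D.map (a₂ ≫ h)) ?_ ?_
    · rw [Category.assoc, hv₂, hf]; simp only [Category.assoc]
    · rw [Category.assoc, hv₂, hf, ← Category.assoc gl, ← e]; simp only [Category.assoc])
  refine ⟨j, Y, ?_⟩
  refine eq_of_eqNear F _ _ fun t => ?_
  obtain ⟨k, u, hu⟩ : ∃ (k : σ) (u : (V₂ k).left), (v₂ k).left u = (c.π.app j).left t := by
    obtain ⟨W, g, z, ⟨_, h, _, ⟨k⟩, rfl⟩, -, hz⟩ := mem_Jet.1 hR ((c.π.app j).left t)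
    exact ⟨k, h.left z, (comp_left_apply h _ z).symm.trans hz⟩
  obtain ⟨Z, α, β, hαβ, hZ, -⟩ := exists_pullback (c.π.app j) (v₂ k)
  obtain ⟨z, hz, -⟩ := Scheme.exists_preimage_of_isPullback hZ t u hu.symm
  rw [← hz]
  refine EqNear.of_map F α _ _ z (eqNear_of_eq F _ _ ?_ z)
  rw [map_comp', hαβ, ← map_comp', show (G F).obj.map (v₂ k).op Y = _ from hY k, map_comp']
  exact key k _ _ α (by rw [Category.assoc, hv₂, ← Category.assoc, ← hαβ, Category.assoc, c.w])

end Groth.L27.BigSets
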