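import Groth.Agent.L27.BigSets.Small
import Groth.Agent.L27.BigSets.Limit
import Groth.Agent.L27.BigSets.H0
import Groth.Agent.L27.StalkRpush.Main
import Groth.Agent.L27.EtLocal.StrictHensel
import Groth.Agent.L27.EtSite.IntegralFibre

/-! # Sections over a geometric fibre of a proper morphism spread out -/

universe u

open CategoryTheory CategoryTheory.Limits AlgebraicGeometry Opposite IsLocalRing

set_option autoImplicit false
set_option backward.isDefEq.respectTransparency.types false
set_option linter.style.haveILetI false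

noncomputable section

namespace Groth.L27.BigSets

open Groth.L05.Henselization (Col ε)
open Groth.L27.StalkRpush (toBase bPt nb Idx pt rr rr_fst rr_hom toR map_toBase)
open Groth.L27.EtSite (fibreMap)

variable {X Y : Scheme.{u}} (f : X ⟶ Y) [IsProper f]

theorem exists_stage_section_chart (B : Type u) [CommRing B] (j : Spec (CommRingCat.of B) ⟶ Y) [IsOpenImmersion j]
    (Ω : Type u) [Field Ω] [IsSepClosed Ω] [Algebra B Ω] {W : Scheme.{u}} {p : W ⟶ X}
    {q : W ⟶ Spec (CommRingCat.of Ω)} (hW : IsPullback p q f (bPt B j Ω)) (F : EtDesc.Sh X)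
    (x : (G F).obj.obj (op (Over.mk p))) :
    ∃ (V : Y.Etale) (y : (Scheme.pointSmallEtale (bPt B j Ω)).fiber.obj V)
      (s : F.obj.obj (op ((EtCoh.bc f).obj V))),
      ∀ c : Over.mk p ⟶ (EtFppf.a X).obj ((EtCoh.bc f).obj V), c.left = fibreMap hW V y → x = e F c s := by
  haveI := EtStrict.isLocalRing B Ω
  obtain ⟨hH, hS⟩ := EtStrict.strictlyHenselian B Ω
  haveI := hH
  haveI := hS
  let R := Col B Ω
  let εh : R →+* Ω := (ε B Ω).toRingHom
  have hker : ∀ r ∈ maximalIdeal R, εh r = 0 := fun r hr => by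
    have h := (mem_maximalIdeal r).1 hr
    rw [mem_nonunits_iff, EtStrict.isUnit_iff, not_not] at h
    exact h
  let jκ : ResidueField R →+* Ω := Ideal.Quotient.lift _ εh hker
  letI : Algebra (ResidueField R) Ω := jκ.toAlgebra
  let η : Spec (CommRingCat.of R) ⟶ Y := toBase B R ≫ j
  let π : pullback f η ⟶ X := pullback.fst f η
  let bR : pullback f η ⟶ Spec (CommRingCat.of R) := pullback.snd f η
  haveI : IsProper bR := MorphismProperty.pullback_snd _ _ inferInstance
  let ικ : Spec (CommRingCat.of (ResidueField R)) ⟶ Spec (CommRingCat.of R) :=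
    HenselProper.ι (maximalIdeal R)
  haveI : IsClosedImmersion ικ := IsClosedImmersion.spec_of_surjective _ Ideal.Quotient.mk_surjective
  let i := pullback.fst bR ικ
  haveI : IsClosedImmersion i := MorphismProperty.pullback_fst _ _ inferInstance
  let aκ := pullback.snd bR ικ
  let mΩ : Spec (CommRingCat.of Ω) ⟶ Spec (CommRingCat.of (ResidueField R)) :=
    Spec.map (CommRingCat.ofHom (algebraMap (ResidueField R) Ω))
  let m := pullback.fst aκ mΩ
  have hi : Set.range i = bR ⁻¹' PrimeSpectrum.zeroLocus (maximalIdeal R : Set R) := by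
    rw [Scheme.Pullback.range_fst]
    exact congrArg (bR ⁻¹' ·) (HenselProper.range_ι _)
  have hεκ : mΩ ≫ ικ = Spec.map (CommRingCat.ofHom εh) := by
    exact (Spec.map_comp _ _).symm
  have hεB : Spec.map (CommRingCat.ofHom εh) ≫ η = bPt B j Ω :=
    (Category.assoc _ _ _).symm.trans (congrArg (· ≫ j) (map_toBase B (ε B Ω)))
  -- the comparison of `W` with the iterated base change
  let u₀ : W ⟶ pullback f η := pullback.lift p (q ≫ Spec.map (CommRingCat.ofHom εh))
    (by rw [Category.assoc, hεB]; exact hW.w)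
  let u₁ : W ⟶ pullback bR ικ := pullback.lift u₀ (q ≫ mΩ)
    (by rw [Category.assoc, hεκ]; exact pullback.lift_snd _ _ _)
  let u : W ⟶ pullback aκ mΩ := pullback.lift u₁ q (pullback.lift_snd _ _ _)
  have hum : u ≫ m ≫ i = u₀ := by
    rw [← Category.assoc, pullback.lift_fst, pullback.lift_fst]
  have hw : (m ≫ i ≫ π) ≫ f = pullback.snd aκ mΩ ≫ bPt B j Ω := by
    rw [← hεB, ← hεκ]
    simp only [π, i, m, Category.assoc]
    rw [pullback.condition (f := f) (g := η), ← Category.assoc (pullback.fst bR ικ),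
      show pullback.fst bR ικ ≫ pullback.snd f η = pullback.snd bR ικ ≫ ικ from pullback.condition,
      Category.assoc, ← Category.assoc (pullback.fst aκ mΩ),
      show pullback.fst aκ mΩ ≫ pullback.snd bR ικ = pullback.snd aκ mΩ ≫ mΩ from pullback.condition, Category.assoc]
  let v : pullback aκ mΩ ⟶ W := hW.lift (m ≫ i ≫ π) (pullback.snd aκ mΩ) hw
  have huv : u ≫ v = 𝟙 W := hW.hom_ext
    (by rw [Category.assoc, hW.lift_fst, ← Category.assoc m, ← Category.assoc, hum, pullback.lift_fst, Category.id_comp])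
    (by rw [Category.assoc, hW.lift_snd, pullback.lift_snd, Category.id_comp])
  let uO : Over.mk p ⟶ Over.mk (m ≫ i ≫ π) := Over.homMk u (by
    show u ≫ m ≫ i ≫ π = p
    rw [← Category.assoc m, ← Category.assoc, hum, pullback.lift_fst])
  let vO : Over.mk (m ≫ i ≫ π) ⟶ Over.mk p := Over.homMk v (hW.lift_fst _ _ _)
  have huvO : uO ≫ vO = 𝟙 _ := Over.OverMorphism.ext huv
  -- descend along the field extension and extend from the special fibre
  let r₁ : Over.mk (i ≫ π) ⟶ Over.mk π := Over.homMk i rfl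
  let r₂ : Over.mk (m ≫ i ≫ π) ⟶ Over.mk (i ≫ π) := Over.homMk m rfl
  obtain ⟨x₁, hx₁⟩ := surjective_restrict_field (i ≫ π) F aκ r₂ rfl ((G F).obj.map vO.op x)
  obtain ⟨x₀, rfl⟩ := surjective_restrict_proper π F i (maximalIdeal R) bR hi r₁ rfl x₁
  -- descend to a stage
  let D : Idx B Ω ⥤ Over X := nb B j Ω ⋙ EtCoh.bc f ⋙ EtFppf.a X
  let cn : Cone D :=
    { pt := Over.mk π
      π :=
        { app := fun k => Over.homMk (rr f B j Ω R AlgEquiv.refl k) (rr_hom f B j Ω R AlgEquiv.refl k)
          naturality := fun k l g => Over.OverMorphism.ext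
            ((StalkRpush.cone f B j Ω R AlgEquiv.refl).π.naturality g) } }
  have hc : IsLimit ((Over.forget X).mapCone cn) := StalkRpush.isLimitCone f B j Ω R AlgEquiv.refl
  haveI : ∀ (k l : Idx B Ω) (g : k ⟶ l), IsAffineHom (D.map g).left := fun k l g => StalkRpush.isAffineHom_D f B j Ω g
  haveI : ∀ k, CompactSpace (D.obj k).left := StalkRpush.compactSpace_D f B j Ω
  haveI : ∀ k, QuasiSeparatedSpace (D.obj k).left := StalkRpush.quasiSeparatedSpace_D f B j Ω
  obtain ⟨k, z, hz⟩ := exists_stage F D cn hc x₀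
  obtain ⟨s, rfl⟩ := e_id_surjective F ((EtCoh.bc f).obj ((nb B j Ω).obj k)) z
  refine ⟨(nb B j Ω).obj k, pt B j Ω k, s, fun c hcl => ?_⟩
  have e₁ : x = (G F).obj.map uO.op ((G F).obj.map vO.op x) := by rw [map_comp', huvO, map_id']
  rw [e₁, ← hx₁, ← hz, map_comp', map_comp', map_comp']
  refine (e_map F _ _ _).trans (congrArg (fun k' => e F k' s) ?_)
  refine (Category.comp_id _).trans ?_
  apply Over.OverMorphism.ext
  rw [hcl]
  show ((u ≫ m) ≫ i) ≫ rr f B j Ω R AlgEquiv.refl k = _
  rw [Category.assoc u m i, hum]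
  refine pullback.hom_ext ?_ ?_
  · refine ((Category.assoc _ _ _).trans (congrArg (u₀ ≫ ·) (rr_fst f B j Ω R AlgEquiv.refl k))).trans ?_
    refine (Category.assoc _ _ _).symm.trans ((congrArg (· ≫ _) (pullback.lift_snd _ _ _)).trans ?_)
    refine Eq.trans ?_ (pullback.lift_fst _ _ _).symm
    refine (Category.assoc _ _ _).trans (congrArg (q ≫ ·) ?_)
    show Spec.map (CommRingCat.ofHom εh) ≫ Spec.map (CommRingCat.ofHom (toR B Ω R AlgEquiv.refl k).toRingHom) =
      Spec.map (CommRingCat.ofHom k.unop.φ.toRingHom)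
    rw [← Spec.map_comp, ← CommRingCat.ofHom_comp]
    exact congrArg (fun g => Spec.map (CommRingCat.ofHom g))
      (RingHom.ext fun r => L05.Henselization.ε_ι k.unop r)
  · refine ((Category.assoc _ _ _).trans (congrArg (u₀ ≫ ·) (rr_hom f B j Ω R AlgEquiv.refl k))).trans ?_
    exact (pullback.lift_fst _ _ _).trans (pullback.lift_snd _ _ _).symm

/-- A section of the big sheaf on a geometric fibre comes from a section over an etale neighbourhood. -/
theorem exists_stage_section {Ω : Type u} [Field Ω] [IsSepClosed Ω] {W : Scheme.{u}} {p : W ⟶ X}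
    {q : W ⟶ Spec (CommRingCat.of Ω)} {ξ : Spec (CommRingCat.of Ω) ⟶ Y} (hW : IsPullback p q f ξ)
    (F : EtDesc.Sh X) (x : (G F).obj.obj (op (Over.mk p))) :
    ∃ (V : Y.Etale) (y : (Scheme.pointSmallEtale ξ).fiber.obj V) (s : F.obj.obj (op ((EtCoh.bc f).obj V))),
      ∀ c : Over.mk p ⟶ (EtFppf.a X).obj ((EtCoh.bc f).obj V), c.left = fibreMap hW V y → x = e F c s := by
  obtain ⟨_, ⟨U, hU, rfl⟩, hxU, -⟩ := Y.isBasis_affineOpens.exists_subset_of_mem_open
    (Set.mem_univ (ξ default)) isOpen_univ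
  have hr : Set.range ξ ⊆ Set.range hU.fromSpec := by
    rintro _ ⟨a, rfl⟩
    rw [hU.range_fromSpec, Subsingleton.elim (α := Spec (CommRingCat.of Ω)) a default]
    exact hxU
  obtain ⟨φ, hφ⟩ := Spec.map_surjective (IsOpenImmersion.lift hU.fromSpec ξ hr)
  letI : Algebra Γ(Y, U) Ω := φ.hom.toAlgebra
  have hξ : ξ = bPt Γ(Y, U) hU.fromSpec Ω := by
    rw [← IsOpenImmersion.lift_fac hU.fromSpec ξ hr, ← hφ]
    rfl
  subst hξ
  exact exists_stage_section_chart f Γ(Y, U) hU.fromSpec Ω hW F x

end Groth.L27.BigSets
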