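import Groth.Agent.L27.BigSets.ProperBC
import Groth.Agent.L27.EtSite.Pull
import Groth.Prelude.Def_EtCore

/-! # Stalks at the tautological point of a separably closed field -/

universe u

open CategoryTheory CategoryTheory.Limits AlgebraicGeometry Opposite

set_option autoImplicit false
set_option backward.isDefEq.respectTransparency.types false
set_option linter.style.haveILetI false

namespace Groth.L27.BigSets

variable (Ω : Type u) [Field Ω] [IsSepClosed Ω]

/-- The tautological element of the fibre of the final object. -/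
noncomputable abbrev idPt : (Scheme.pointSmallEtale (𝟙 (Spec (CommRingCat.of Ω)))).fiber.obj
    (EtCoh.top (Spec (CommRingCat.of Ω))) :=
  Over.homMk (𝟙 _) (Category.comp_id _)

theorem exists_section_id (U : (Spec (CommRingCat.of Ω)).Etale)
    (y : (Scheme.pointSmallEtale (𝟙 (Spec (CommRingCat.of Ω)))).fiber.obj U) :
    ∃ σ : EtCoh.top (Spec (CommRingCat.of Ω)) ⟶ U,
      (Scheme.pointSmallEtale (𝟙 (Spec (CommRingCat.of Ω)))).fiber.map σ (idPt Ω) = y :=
  ⟨MorphismProperty.Over.homMk y.left (Over.w y), Over.OverMorphism.ext (Category.id_comp _)⟩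

theorem bijective_toPresheafFiber_id (G : EtCoh.Ab (Spec (CommRingCat.of Ω))) :
    Function.Bijective ((Scheme.pointSmallEtale (𝟙 (Spec (CommRingCat.of Ω)))).toPresheafFiber
      (EtCoh.top (Spec (CommRingCat.of Ω))) (idPt Ω) G.obj) := by
  constructor
  · intro z₁ z₂ h
    obtain ⟨Y, g, y, -, hg⟩ :=
      ((Scheme.pointSmallEtale (𝟙 (Spec (CommRingCat.of Ω)))).toPresheafFiber_eq_iff' _ _ _ _).1 h
    obtain ⟨σ, -⟩ := exists_section_id Ω Y y
    have e : σ ≫ g = 𝟙 _ := (EtCore.topIsTerminal _).hom_ext _ _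
    have := congrArg (G.obj.map σ.op) hg
    rwa [← ConcreteCategory.comp_apply, ← ConcreteCategory.comp_apply, ← G.obj.map_comp, ← op_comp, e,
      op_id, G.obj.map_id, ConcreteCategory.id_apply, ConcreteCategory.id_apply] at this
  · intro p
    obtain ⟨U, y, t, rfl⟩ :=
      (Scheme.pointSmallEtale (𝟙 (Spec (CommRingCat.of Ω)))).toPresheafFiber_jointly_surjective p
    obtain ⟨σ, hσ⟩ := exists_section_id Ω U y
    exact ⟨G.obj.map σ.op t, by rw [GrothendieckTopology.Point.toPresheafFiber_w_apply, hσ]⟩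

theorem nonempty_stalk_push_proper {X Y : Scheme.{u}} (f : X ⟶ Y) [IsProper f]
    (ξ : Spec (CommRingCat.of Ω) ⟶ Y) (F : EtCoh.Ab X) :
    Nonempty ((EtCoh.stalk ξ).obj ((EtCoh.push f).obj F) ≅
      ((EtCoh.pull (pullback.fst f ξ)).obj F).obj.obj (op (EtCoh.top (pullback f ξ)))) := by
  have h := IsPullback.of_hasPullback f ξ
  haveI := isIso_baseChange0 h F
  let G := (EtCoh.pull (pullback.fst f ξ)).obj F
  let τ := (Scheme.pointSmallEtale (𝟙 (Spec (CommRingCat.of Ω)))).toPresheafFiber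
    (EtCoh.top (Spec (CommRingCat.of Ω))) (idPt Ω) ((EtCoh.push (pullback.snd f ξ)).obj G).obj
  haveI : IsIso τ := (ConcreteCategory.isIso_iff_bijective τ).2 (bijective_toPresheafFiber_id Ω _)
  exact ⟨(eqToIso (by rw [Category.id_comp]) :
      (EtCoh.stalk ξ).obj ((EtCoh.push f).obj F) ≅ (EtCoh.stalk (𝟙 _ ≫ ξ)).obj ((EtCoh.push f).obj F)) ≪≫
    ((EtSite.stalkPullIso ξ (𝟙 _)).app ((EtCoh.push f).obj F)).symm ≪≫
    (EtCoh.stalk (𝟙 _)).mapIso (asIso (EtCoh.baseChange0 f ξ (pullback.snd f ξ) (pullback.fst f ξ) h.w F)) ≪≫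
    (asIso τ).symm ≪≫ G.obj.mapIso (EtCore.bcTopIso (pullback.snd f ξ)).op.symm⟩

end Groth.L27.BigSets
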