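import Groth.Agent.L27.BigSets.FibreSection
import Groth.Agent.L27.BigSets.Forget
import Groth.Agent.L27.EtSite.BaseChangeIso

/-! # Local systems of sections near a geometric fibre of a proper morphism -/

universe u v w

open CategoryTheory CategoryTheory.Limits AlgebraicGeometry Opposite

set_option autoImplicit false
set_option backward.isDefEq.respectTransparency.types false
set_option linter.style.haveILetI false
set_option linter.unusedSectionVars false

noncomputable section

namespace Groth.L27.BigSets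

open Groth.L27.EtSite (fibreMap)
open Groth.L27.EtSite.BC (IsLocal isPullback_fibre ptX ptX' up P eta)
open Groth.L27.Fppf (cT pr exists_lift)

variable {X Y X' Y' : Scheme.{u}} {f : X ⟶ Y} {g : Y' ⟶ Y} {f' : X' ⟶ Y'} {g' : X' ⟶ X}
  (h : IsPullback g' f' f g) {Ω : Type u} [Field Ω] [IsSepClosed Ω] {η' : Spec (CommRingCat.of Ω) ⟶ Y'}

theorem exists_global_sets [IsProper f] (F : EtDesc.Sh X) (R : Y'.Etale)
    (r : (Scheme.pointSmallEtale η').fiber.obj R) (t : (P g' F).obj.obj (op ((EtCoh.bc f').obj R))) :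
    ∃ (V : Y.Etale) (y : (Scheme.pointSmallEtale (η' ≫ g)).fiber.obj V)
      (s : F.obj.obj (op ((EtCoh.bc f).obj V))), ∀ z : ↥(pullback f' η'), IsLocal h F R r t V y (𝟙 _) s z := by
  let κ : pullback f' η' ⟶ ((EtCoh.bc f').obj R).left := fibreMap (IsPullback.of_hasPullback f' η') R r
  have hκ : κ ≫ ((EtCoh.bc f').obj R).hom = pullback.fst f' η' := pullback.lift_snd _ _ _
  let jR : Over.mk (pullback.fst f' η' ≫ g') ⟶ (cT g').obj ((EtCoh.bc f').obj R) :=
    Over.homMk κ (((Category.assoc _ _ _).symm.trans (congrArg (· ≫ g') hκ)))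
  let x := (G F).obj.map jR.op ((theta g' F).hom.app (op ((EtCoh.bc f').obj R)) t)
  obtain ⟨V, y, s, hs⟩ := exists_stage_section f (isPullback_fibre h η') F x
  refine ⟨V, y, s, fun z => ?_⟩
  let c₀ : Over.mk (pullback.fst f' η' ≫ g') ⟶ (EtFppf.a X).obj ((EtCoh.bc f).obj V) :=
    Over.homMk (fibreMap (isPullback_fibre h η') V y) (pullback.lift_snd _ _ _)
  have hx : x = e F c₀ s := hs c₀ rfl
  obtain ⟨Ω', _, _, ζ, hζ⟩ := EtSite.exists_geometric_point z
  let ξ := ζ ≫ pullback.fst f' η'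
  let Φ := Scheme.pointSmallEtale ξ
  refine ⟨Ω', inferInstance, inferInstance, ζ, ptX h ζ V y, hζ, by rw [CategoryTheory.Functor.map_id]; rfl, ?_⟩
  -- a common neighbourhood
  obtain ⟨⟨Q, e₀⟩, ⟨a, ha⟩, ⟨b, hb⟩, -⟩ := IsCofilteredOrEmpty.cone_objs
    (Φ.fiber.elementsMk ((EtCoh.bc f').obj R) (ptX' ζ R r))
    (Φ.fiber.elementsMk ((EtCoh.bc g').obj ((EtCoh.bc f).obj V)) (up g' (ptX h ζ V y)))
  suffices hkey : Φ.toPresheafFiber Q e₀ (P g' F).obj ((P g' F).obj.map a.op t) =
      Φ.toPresheafFiber Q e₀ (P g' F).obj ((P g' F).obj.map b.op (eta g' F ((EtCoh.bc f).obj V) s)) by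
    rw [GrothendieckTopology.Point.toPresheafFiber_w_apply, GrothendieckTopology.Point.toPresheafFiber_w_apply,
      show Φ.fiber.map a e₀ = ptX' ζ R r from ha, show Φ.fiber.map b e₀ = up g' (ptX h ζ V y) from hb] at hkey
    exact hkey
  let E := Over.mk (ξ ≫ g')
  let ζO : E ⟶ Over.mk (pullback.fst f' η' ≫ g') := Over.homMk ζ (Category.assoc _ _ _).symm
  let eO : E ⟶ (cT g').obj Q := Over.homMk e₀.left
    ((Category.assoc _ _ _).symm.trans (congrArg (· ≫ g') (Over.w e₀)))
  have ea : eO ≫ (cT g').map a = ζO ≫ jR :=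
    Over.OverMorphism.ext (congrArg (fun w => w.left) ha)
  have eb : eO ≫ (cT g').map b ≫ pr g' ((EtCoh.bc f).obj V) = ζO ≫ c₀ := by
    apply Over.OverMorphism.ext
    refine (Category.assoc _ _ _).symm.trans ((congrArg (· ≫ _) (congrArg (fun w => w.left) hb)).trans ?_)
    exact pullback.lift_fst _ _ _
  have hnear : EqNear F ((theta g' F).hom.app (op Q) ((P g' F).obj.map a.op t))
      (e F ((cT g').map b ≫ pr g' ((EtCoh.bc f).obj V)) s) (e₀.left (default : Spec (CommRingCat.of Ω'))) := by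
    refine EqNear.of_map F eO _ _ (default : Spec (CommRingCat.of Ω')) (eqNear_of_eq F _ _ ?_ _)
    rw [e_map, eb, ← e_map, ← hx]
    refine (congrArg ((G F).obj.map eO.op) (NatTrans.naturality_apply (theta g' F).hom a.op t)).trans ?_
    exact (map_comp' F eO ((cT g').map a) _).trans ((congrArg (fun k => (G F).obj.map k.op _) ea).trans
      (map_comp' F ζO jR _).symm)
  obtain ⟨T', gT, t', hg, ht, heq⟩ := hnear
  haveI := hg
  obtain ⟨Q', k, j, -, hjk, hsurj⟩ := exists_lift g' gT
  obtain ⟨q, hq⟩ := hsurj t'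
  have hkq : k.left q = e₀.left (default : Spec (CommRingCat.of Ω')) := by
    refine Eq.trans ?_ ((congrArg gT.left hq).trans ht)
    exact (congrArg (fun w : (cT g').obj Q' ⟶ _ => w.left q) hjk).symm.trans (Scheme.Hom.comp_apply _ _ _)
  let Uk : Scheme.Etale Q.left := @Scheme.Etale.mk _ _ k.left (EtSite.etale_left k)
  obtain ⟨yk, -⟩ := EtSite.exists_fiber e₀.left Uk q hkq
  let e' : Φ.fiber.obj Q' := Over.homMk yk.left
    ((congrArg (yk.left ≫ ·) (MorphismProperty.Over.w k).symm).trans ((Category.assoc _ _ _).symm.trans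
      ((congrArg (· ≫ Q.hom) (Over.w yk)).trans (Over.w e₀))))
  have hke : Φ.fiber.map k e' = e₀ := Over.OverMorphism.ext (Over.w yk)
  have hθ : (theta g' F).hom.app (op Q') ((P g' F).obj.map k.op ((P g' F).obj.map a.op t)) =
      (theta g' F).hom.app (op Q') ((P g' F).obj.map k.op ((P g' F).obj.map b.op (eta g' F ((EtCoh.bc f).obj V) s))) := by
    refine (NatTrans.naturality_apply (theta g' F).hom k.op _).trans
      (Eq.trans ?_ (NatTrans.naturality_apply (theta g' F).hom k.op _).symm)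
    refine Eq.trans ?_ (congrArg ((GT g' F).obj.map k.op) (theta_map_eta g' F b s).symm)
    show (G F).obj.map ((cT g').map k).op _ = (G F).obj.map ((cT g').map k).op _
    rw [← hjk, ← map_comp', ← map_comp' F j gT]
    exact congrArg _ heq
  haveI := isIso_theta g' F
  have hP := (ConcreteCategory.bijective_of_isIso
    (((sheafToPresheaf _ _).map (theta g' F)).app (op Q'))).1 hθ
  rw [← hke, ← GrothendieckTopology.Point.toPresheafFiber_w_apply, ← GrothendieckTopology.Point.toPresheafFiber_w_apply]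
  exact congrArg _ hP

variable {A : Type w} [Category.{v} A] {FA : A → A → Type*} {CA : A → Type (u + 1)}
  [∀ (P Q : A), FunLike (FA P Q) (CA P) (CA Q)] [ConcreteCategory.{u + 1} A FA]
  [HasColimitsOfSize.{u, u} A] [HasProducts.{u} A] [PreservesFilteredColimitsOfSize.{u, u} (forget A)]
  [∀ X : Scheme.{u}, X.smallEtaleTopology.HasSheafCompose (forget A)]
  [((EtCoh.bc g').sheafPushforwardContinuous A X.smallEtaleTopology X'.smallEtaleTopology).IsRightAdjoint]
  (F : Sheaf X.smallEtaleTopology A)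

/-- The existence of a global local system for any sheaf. -/
theorem exists_global [IsProper f] (R : Y'.Etale) (r : (Scheme.pointSmallEtale η').fiber.obj R)
    (t : ToType ((P g' F).obj.obj (op ((EtCoh.bc f').obj R)))) :
    ∃ (V : Y.Etale) (y : (Scheme.pointSmallEtale (η' ≫ g)).fiber.obj V)
      (s : ToType (F.obj.obj (op ((EtCoh.bc f).obj V)))), ∀ z : ↥(pullback f' η'), IsLocal h F R r t V y (𝟙 _) s z := by
  haveI := isIso_chi g' F
  obtain ⟨t₀, ht₀⟩ := (ConcreteCategory.bijective_of_isIso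
    (((sheafToPresheaf _ _).map (chi g' F)).app (op ((EtCoh.bc f').obj R)))).2 t
  obtain ⟨V, y, s, hs⟩ := exists_global_sets h (und F) R r t₀
  refine ⟨V, y, s, fun z => ?_⟩
  obtain ⟨Ω', _, _, ζ, q, hz, hq, heq⟩ := hs z
  refine ⟨Ω', inferInstance, inferInstance, ζ, q, hz, hq, ?_⟩
  let Φ := Scheme.pointSmallEtale (ζ ≫ pullback.fst f' η')
  obtain ⟨⟨Q, e₀⟩, ⟨a, ha⟩, ⟨b, hb⟩, -⟩ := IsCofilteredOrEmpty.cone_objs
    (Φ.fiber.elementsMk ((EtCoh.bc f').obj R) (ptX' ζ R r))
    (Φ.fiber.elementsMk ((EtCoh.bc g').obj ((EtCoh.bc f).obj V)) (up g' q))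
  rw [← show Φ.fiber.map a e₀ = ptX' ζ R r from ha, ← show Φ.fiber.map b e₀ = up g' q from hb,
    ← GrothendieckTopology.Point.toPresheafFiber_w_apply, ← GrothendieckTopology.Point.toPresheafFiber_w_apply]
    at heq ⊢
  obtain ⟨Q', k, e', he', hk⟩ := (Φ.toPresheafFiber_eq_iff' _ _ _ _).1 heq
  refine (Φ.toPresheafFiber_eq_iff' _ _ _ _).2 ⟨Q', k, e', he', ?_⟩
  have ha₀ : (chi g' F).hom.app (op Q') ((P g' (und F)).obj.map k.op ((P g' (und F)).obj.map a.op t₀)) =
      (P g' F).obj.map k.op ((P g' F).obj.map a.op t) := by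
    refine (NatTrans.naturality_apply (chi g' F).hom k.op _).trans ?_
    refine (congrArg ((und (P g' F)).obj.map k.op) ((NatTrans.naturality_apply (chi g' F).hom a.op t₀).trans
      (congrArg ((und (P g' F)).obj.map a.op) ht₀))).trans ?_
    rfl
  refine ha₀.symm.trans ((congrArg _ hk).trans ?_)
  refine (NatTrans.naturality_apply (chi g' F).hom k.op _).trans ?_
  exact congrArg ((und (P g' F)).obj.map k.op) (chi_map_eta g' F b s)

end Groth.L27.BigSets
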