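import Groth.Agent.L27.BigSets.Elem

/-! # The big sheaf of sets on small etale schemes -/

universe u

open CategoryTheory CategoryTheory.Limits AlgebraicGeometry Opposite

set_option autoImplicit false
set_option backward.isDefEq.respectTransparency.types false
set_option linter.style.haveILetI false

noncomputable section

namespace Groth.L27.BigSets

variable {S : Scheme.{u}} (F : EtDesc.Sh S)

theorem exists_small {U : S.Etale} {T' : Over S} (g : T' ⟶ (EtFppf.a S).obj U) (hg : AlgebraicGeometry.Etale g.left) :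
    ∃ (W : S.Etale) (j : (EtFppf.a S).obj W ⟶ T') (k : W ⟶ U), j ≫ g = (EtFppf.a S).map k ∧
      ∀ t : T'.left, ∃ w : W.left, k.left w = g.left t := by
  haveI : AlgebraicGeometry.Etale g.left := hg
  let gl : T'.left ⟶ U.left := g.left
  haveI : AlgebraicGeometry.Etale gl := hg
  haveI : AlgebraicGeometry.Etale U.hom := U.prop
  exact ⟨Scheme.Etale.mk (gl ≫ U.hom), Over.homMk (𝟙 T'.left) ((Category.id_comp _).trans (Over.w g).symm),
    MorphismProperty.Over.homMk gl rfl, Over.OverMorphism.ext (Category.id_comp _), fun t => ⟨t, rfl⟩⟩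

theorem exists_a_map {W U : S.Etale} (c : (EtFppf.a S).obj W ⟶ (EtFppf.a S).obj U) :
    ∃ k : W ⟶ U, (EtFppf.a S).map k = c :=
  ⟨MorphismProperty.Over.homMk c.left (Over.w c), Over.OverMorphism.ext rfl⟩

theorem e_id_map {U W : S.Etale} (k : W ⟶ U) (s : F.obj.obj (op U)) :
    (G F).obj.map ((EtFppf.a S).map k).op (e F (𝟙 _) s) = e F (𝟙 _) (F.obj.map k.op s) := by
  rw [e_map, e_nat, Category.comp_id, Category.id_comp]

theorem e_id_injective (U : S.Etale) : Function.Injective (e F (𝟙 ((EtFppf.a S).obj U))) := by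
  intro s s' h
  refine EtSite.ext_of_locally F fun u => ?_
  obtain ⟨T', g, t', U', b₁, b₂, c', hg, ht, hc₁, hc₂, hs⟩ := exists_of_e_eq F _ _ s s' h u
  obtain ⟨W, j, k, hjk, hsurj⟩ := exists_small g hg
  obtain ⟨c, hc⟩ := exists_a_map (j ≫ c')
  obtain ⟨w, hw⟩ := hsurj t'
  have e₁ : c ≫ b₁ = k := (Scheme.Etale.forget S).map_injective (by
    show (EtFppf.a S).map (c ≫ b₁) = (EtFppf.a S).map k
    rw [Functor.map_comp, hc, Category.assoc, hc₁, Category.comp_id, hjk])
  have e₂ : c ≫ b₂ = k := (Scheme.Etale.forget S).map_injective (by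
    show (EtFppf.a S).map (c ≫ b₂) = (EtFppf.a S).map k
    rw [Functor.map_comp, hc, Category.assoc, hc₂, Category.comp_id, hjk])
  refine ⟨W, k, w, hw.trans ht, ?_⟩
  conv_lhs => rw [← e₁]
  conv_rhs => rw [← e₂]
  simp only [op_comp, Functor.map_comp, ConcreteCategory.comp_apply, hs]

theorem e_id_surjective (U : S.Etale) : Function.Surjective (e F (𝟙 ((EtFppf.a S).obj U))) := by
  intro x
  let R : Sieve U :=
    { arrows := fun W k => ∃ s, e F (𝟙 _) s = (G F).obj.map ((EtFppf.a S).map k).op x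
      downward_closed := fun {W W' k} ⟨s, hs⟩ l => ⟨F.obj.map l.op s, by
        rw [← e_id_map, hs, map_comp', ← Functor.map_comp]⟩ }
  have hR : R ∈ S.smallEtaleTopology U := (EtSite.mem_topology_iff R).2 fun u => by
    obtain ⟨T', g, t', U', c, s, hg, ht, hs⟩ := exists_e F x u
    obtain ⟨W, j, k, hjk, hsurj⟩ := exists_small g hg
    obtain ⟨c', hc⟩ := exists_a_map (j ≫ c)
    obtain ⟨w, hw⟩ := hsurj t'
    refine ⟨W, k, w, ⟨F.obj.map c'.op s, ?_⟩, hw.trans ht⟩
    rw [e_nat, Category.id_comp, hc, ← hjk, ← map_comp', hs, e_map]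
  have hF := ((isSheaf_iff_isSheaf_of_type _ _).1 F.property) R hR
  let fam : Presieve.FamilyOfElements F.obj R.arrows := fun W k h => h.choose
  have hfam : fam.Compatible := by
    intro W₁ W₂ Q g₁ g₂ k₁ k₂ h₁ h₂ e'
    refine e_id_injective F Q ?_
    show e F (𝟙 _) (F.obj.map g₁.op h₁.choose) = e F (𝟙 _) (F.obj.map g₂.op h₂.choose)
    rw [← e_id_map, ← e_id_map, h₁.choose_spec, h₂.choose_spec, map_comp', map_comp', ← Functor.map_comp,
      ← Functor.map_comp, e']
  obtain ⟨s, hs, -⟩ := hF fam hfam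
  refine ⟨s, eq_of_locally F _ _ fun u => ?_⟩
  obtain ⟨W, k, w, hk, hw⟩ := (EtSite.mem_topology_iff R).1 hR u
  refine ⟨(EtFppf.a S).obj W, (EtFppf.a S).map k, w, Fppf.etale_a_map k, hw, ?_⟩
  rw [e_id_map, show F.obj.map k.op s = hk.choose from hs k hk, hk.choose_spec]

end Groth.L27.BigSets
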