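import Groth.Agent.L27.BigSets.Limit
import Groth.Agent.L27.BigSets.Small
import Groth.Agent.L27.BigSets.Pull
import Groth.Agent.L27.StalkRpush.Main
import Groth.Agent.L27.EtLocal.StrictHensel

/-! # Sections of the big sheaf over a strictly local base change of a qcqs morphism -/

universe u

open CategoryTheory CategoryTheory.Limits AlgebraicGeometry Opposite

set_option autoImplicit false
set_option backward.isDefEq.respectTransparency.types false
set_option linter.style.haveILetI false
set_option linter.unusedSectionVars false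

noncomputable section

namespace Groth.L27.BigSets.QC

open Groth.L05.Henselization (Col ε)
open Groth.L27.StalkRpush (toBase bPt nb Idx pt rr rr_fst rr_hom toR map_toBase specCone map_pt)
open Groth.L27.Fppf (cT)

section Uniqueness

theorem isOpenImmersion_diagonal {Y : Scheme.{u}} (U : Y.Etale) : IsOpenImmersion (pullback.diagonal U.hom) := by
  haveI : AlgebraicGeometry.Etale U.hom := U.prop
  haveI : AlgebraicGeometry.Etale (pullback.fst U.hom U.hom) := inferInstance
  haveI : AlgebraicGeometry.Etale (pullback.diagonal U.hom ≫ pullback.fst U.hom U.hom) := by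
    rw [pullback.diagonal_fst]
    exact MorphismProperty.id_mem EtCoh.etaleMP.{u} _
  haveI : AlgebraicGeometry.Etale (pullback.diagonal U.hom) :=
    MorphismProperty.of_postcomp (W := EtCoh.etaleMP.{u}) (W' := EtCoh.etaleMP.{u}) _ (pullback.fst U.hom U.hom)
      ‹AlgebraicGeometry.Etale (pullback.fst U.hom U.hom)› ‹AlgebraicGeometry.Etale (_ ≫ _)›
  exact IsOpenImmersion.of_flat_of_mono _

/-- Morphisms from a local scheme to an etale scheme agreeing at the closed point agree. -/
theorem hom_ext_local {Y Z : Scheme.{u}} (U : Y.Etale) {K : Type u} [Field K]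
    (c : Spec (CommRingCat.of K) ⟶ Z) (hc : ∀ O : Z.Opens, c default ∈ O → O = ⊤) (l₁ l₂ : Z ⟶ U.left)
    (h₁ : l₁ ≫ U.hom = l₂ ≫ U.hom) (h₂ : c ≫ l₁ = c ≫ l₂) : l₁ = l₂ := by
  haveI := isOpenImmersion_diagonal U
  let δ := pullback.diagonal U.hom
  let p : Z ⟶ pullback U.hom U.hom := pullback.lift l₁ l₂ h₁
  have hcp : c ≫ p = (c ≫ l₁) ≫ δ := by
    refine pullback.hom_ext ?_ ?_
    · simp only [Category.assoc, p, δ, pullback.lift_fst, pullback.diagonal_fst, Category.comp_id]
    · simp only [Category.assoc, p, δ, pullback.lift_snd, pullback.diagonal_snd, Category.comp_id, h₂]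
  have htop : p ⁻¹ᵁ δ.opensRange = ⊤ := hc _ ⟨(c ≫ l₁) default,
    (Scheme.Hom.comp_apply _ _ _).symm.trans ((congrArg (fun q : Spec (CommRingCat.of K) ⟶ _ => q default) hcp.symm).trans
      (Scheme.Hom.comp_apply _ _ _))⟩
  have hr : Set.range p ⊆ Set.range δ := by
    rintro _ ⟨z, rfl⟩
    exact (show z ∈ p ⁻¹ᵁ δ.opensRange from htop ▸ trivial)
  have hl : IsOpenImmersion.lift δ p hr ≫ δ = p := IsOpenImmersion.lift_fac _ _ _
  have e₁ := congrArg (· ≫ pullback.fst U.hom U.hom) hl
  have e₂ := congrArg (· ≫ pullback.snd U.hom U.hom) hl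
  simp only [Category.assoc, p, δ, pullback.lift_fst, pullback.diagonal_fst, Category.comp_id] at e₁
  simp only [Category.assoc, p, δ, pullback.lift_snd, pullback.diagonal_snd, Category.comp_id] at e₂
  exact e₁.symm.trans e₂

variable (B : Type u) [CommRing B] (K : Type u) [Field K] [Algebra B K]
  (R : Type u) [CommRing R] [Algebra B R] (e : Col B K ≃ₐ[B] R)

/-- The closed geometric point. -/
abbrev cpt : Spec (CommRingCat.of K) ⟶ Spec (CommRingCat.of R) :=
  Spec.map (CommRingCat.ofHom ((ε B K).comp e.symm.toAlgHom).toRingHom)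

theorem cpt_toBase : cpt B K R e ≫ toBase B R = toBase B K :=
  map_toBase B ((ε B K).comp e.symm.toAlgHom)

theorem eq_top_of_cpt_mem (O : (Spec (CommRingCat.of R)).Opens) (h : cpt B K R e default ∈ O) : O = ⊤ := by
  refine top_le_iff.mp fun p _ => ?_
  refine Specializes.mem_open ?_ O.isOpen h
  refine (PrimeSpectrum.le_iff_specializes _ _).mp ?_
  intro x hx
  show (ε B K) (e.symm x) ∈ ((default : Spec (CommRingCat.of K)) : PrimeSpectrum K).asIdeal
  by_contra hne
  have hu : IsUnit ((ε B K) (e.symm x)) := by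
    refine isUnit_iff_ne_zero.2 fun h0 => hne ?_
    rw [h0]
    exact zero_mem _
  have hx' : IsUnit x := by
    have := (L05.Henselization.isUnit_of_isUnit_ε hu).map e.toAlgHom
    simpa using this
  exact p.isPrime.ne_top (Ideal.eq_top_of_isUnit_mem _ hx hx')

theorem cpt_toR (i : Idx B K) :
    cpt B K R e ≫ Spec.map (CommRingCat.ofHom (toR B K R e i).toRingHom) =
      Spec.map (CommRingCat.ofHom i.unop.φ.toRingHom) := by
  rw [← Spec.map_comp, ← CommRingCat.ofHom_comp]
  refine congrArg (fun g => Spec.map (CommRingCat.ofHom g)) (RingHom.ext fun r => ?_)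
  show ε B K (e.symm (e (L05.Henselization.ι i.unop r))) = i.unop.φ r
  rw [AlgEquiv.symm_apply_apply, L05.Henselization.ε_ι]

end Uniqueness

section Stages

variable {X Y X₀ : Scheme.{u}} (f : X ⟶ Y) (π : X ⟶ X₀) (F : EtDesc.Sh X₀)
  (B : Type u) [CommRing B] (j : Spec (CommRingCat.of B) ⟶ Y) [IsOpenImmersion j]
  (K : Type u) [Field K] [IsSepClosed K] [Algebra B K]
  (R : Type u) [CommRing R] [Algebra B R] (e : Col B K ≃ₐ[B] R)

/-- The base change to the local ring, over `X₀`. -/
abbrev pl : Over X₀ := Over.mk (pullback.fst f (toBase B R ≫ j) ≫ π)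

/-- The map to a stage. -/
def toStage (i : Idx B K) : pl f π B j R ⟶ (cT π).obj ((EtCoh.bc f).obj ((nb B j K).obj i)) :=
  Over.homMk (rr f B j K R e i) ((Category.assoc _ _ _).symm.trans (congrArg (· ≫ π) (rr_hom f B j K R e i)))

theorem toStage_map {i k : Idx B K} (q : i ⟶ k) :
    toStage f π B j K R e i ≫ (cT π).map ((EtCoh.bc f).map ((nb B j K).map q)) = toStage f π B j K R e k :=
  Over.OverMorphism.ext (((StalkRpush.cone f B j K R e).π.naturality q).symm.trans (Category.id_comp _))

variable [QuasiCompact f] [QuasiSeparated f]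

/-- The system over `X₀`. -/
abbrev sys : Idx B K ⥤ Over X₀ := nb B j K ⋙ EtCoh.bc f ⋙ cT π

/-- The cone over `X₀`. -/
def sysCone : Cone (sys f π B j K) where
  pt := pl f π B j R
  π :=
    { app := fun i => toStage f π B j K R e i
      naturality := fun _ _ q => (Category.id_comp _).trans (toStage_map f π B j K R e q).symm }

theorem exists_stage_pl (x : (G F).obj.obj (op (pl f π B j R))) :
    ∃ (i : Idx B K) (z : (G F).obj.obj (op ((cT π).obj ((EtCoh.bc f).obj ((nb B j K).obj i))))),
      (G F).obj.map (toStage f π B j K R e i).op z = x := by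
  haveI : ∀ (k l : Idx B K) (q : k ⟶ l), IsAffineHom ((sys f π B j K).map q).left :=
    fun k l q => StalkRpush.isAffineHom_D f B j K q
  haveI : ∀ k, CompactSpace ((sys f π B j K).obj k).left := StalkRpush.compactSpace_D f B j K
  haveI : ∀ k, QuasiSeparatedSpace ((sys f π B j K).obj k).left := StalkRpush.quasiSeparatedSpace_D f B j K
  have hc : IsLimit ((Over.forget X₀).mapCone (sysCone f π B j K R e)) := StalkRpush.isLimitCone f B j K R e
  exact exists_stage F (sys f π B j K) (sysCone f π B j K R e) hc x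

theorem exists_eq_pl (i : Idx B K) (z z' : (G F).obj.obj (op ((cT π).obj ((EtCoh.bc f).obj ((nb B j K).obj i)))))
    (h : (G F).obj.map (toStage f π B j K R e i).op z = (G F).obj.map (toStage f π B j K R e i).op z') :
    ∃ (l : Idx B K) (q : l ⟶ i), (G F).obj.map ((cT π).map ((EtCoh.bc f).map ((nb B j K).map q))).op z =
      (G F).obj.map ((cT π).map ((EtCoh.bc f).map ((nb B j K).map q))).op z' := by
  haveI : ∀ (k l : Idx B K) (q : k ⟶ l), IsAffineHom ((sys f π B j K).map q).left :=
    fun k l q => StalkRpush.isAffineHom_D f B j K q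
  haveI : ∀ k, CompactSpace ((sys f π B j K).obj k).left := StalkRpush.compactSpace_D f B j K
  have hc : IsLimit ((Over.forget X₀).mapCone (sysCone f π B j K R e)) := StalkRpush.isLimitCone f B j K R e
  exact exists_map_eq F (sys f π B j K) (sysCone f π B j K R e) hc z z' h

end Stages

section Identity

variable {X : Scheme.{u}} (F : EtDesc.Sh X)

/-- The comparison of the two ways to view an etale scheme over `X`. -/
def qq (U : X.Etale) : (cT (𝟙 X)).obj U ⟶ (EtFppf.a X).obj U :=
  Over.homMk (𝟙 U.left) ((Category.id_comp _).trans (Category.comp_id _).symm)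

theorem qq_nat {U U' : X.Etale} (b : U' ⟶ U) : (cT (𝟙 X)).map b ≫ qq U = qq U' ≫ (EtFppf.a X).map b :=
  Over.OverMorphism.ext ((Category.comp_id _).trans (Category.id_comp _).symm)

theorem e_qq_bijective (U : X.Etale) : Function.Bijective (e F (qq U)) := by
  let q' : (EtFppf.a X).obj U ⟶ (cT (𝟙 X)).obj U :=
    Over.homMk (𝟙 U.left) ((Category.id_comp _).trans (Category.comp_id _))
  have h1 : qq U ≫ q' = 𝟙 _ := Over.OverMorphism.ext (Category.comp_id _)
  have h2 : q' ≫ qq U = 𝟙 _ := Over.OverMorphism.ext (Category.comp_id _)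
  refine ⟨fun s s' h => e_id_injective F U ?_, fun x => ?_⟩
  · have := congrArg ((G F).obj.map q'.op) h
    rwa [e_map, e_map, h2] at this
  · obtain ⟨s, hs⟩ := e_id_surjective F U ((G F).obj.map q'.op x)
    refine ⟨s, ?_⟩
    have := congrArg ((G F).obj.map (qq U).op) hs
    rwa [map_comp', h1, map_id', e_map, Category.comp_id] at this

theorem e_qq_map {U U' : X.Etale} (b : U' ⟶ U) (s : F.obj.obj (op U)) :
    (G F).obj.map ((cT (𝟙 X)).map b).op (e F (qq U) s) = e F (qq U') (F.obj.map b.op s) := by
  rw [e_map, e_nat, qq_nat]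

end Identity

end Groth.L27.BigSets.QC
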