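import Groth.Agent.L27.BigSets.Qcqs
import Groth.Agent.L27.BigSets.Forget
import Groth.Agent.L27.EtSite.BaseChange

/-! # Base change of qcqs direct images on stalks via strictly local schemes -/

universe u v w

open CategoryTheory CategoryTheory.Limits AlgebraicGeometry Opposite

set_option autoImplicit false
set_option backward.isDefEq.respectTransparency.types false
set_option linter.style.haveILetI false
set_option linter.unusedSectionVars false

noncomputable section

namespace Groth.L27.BigSets.QC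

open Groth.L05.Henselization (Col ε)
open Groth.L27.StalkRpush (toBase bPt nb Idx pt rr rr_fst rr_hom toR map_toBase specCone map_pt exists_dom exists_map)
open Groth.L27.Fppf (cT pr)
open Groth.L27.EtSite.BC (psi P eta swap up down up_down down)

variable {X Y X' Y' : Scheme.{u}} {f : X ⟶ Y} {g : Y' ⟶ Y} {f' : X' ⟶ Y'} {g' : X' ⟶ X}
  (h : IsPullback g' f' f g)
  (B : Type u) [CommRing B] (j : Spec (CommRingCat.of B) ⟶ Y) [IsOpenImmersion j]
  (K : Type u) [Field K] [IsSepClosed K] [Algebra B K]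
  (R : Type u) [CommRing R] [Algebra B R] (e₀ : Col B K ≃ₐ[B] R)
  (B' : Type u) [CommRing B'] (j' : Spec (CommRingCat.of B') ⟶ Y') [IsOpenImmersion j']
  (K' : Type u) [Field K'] [IsSepClosed K'] [Algebra B' K']
  (R' : Type u) [CommRing R'] [Algebra B' R'] (e₁ : Col B' K' ≃ₐ[B'] R')
  (ψ : Spec (CommRingCat.of R') ⟶ Spec (CommRingCat.of R))
  (hψ : ψ ≫ toBase B R ≫ j = (toBase B' R' ≫ j') ≫ g)
  (ρ : Spec (CommRingCat.of K') ⟶ Spec (CommRingCat.of K))
  (hρ : cpt B' K' R' e₁ ≫ ψ = ρ ≫ cpt B K R e₀)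

include hψ hρ in
theorem bPt_eq : bPt B' j' K' ≫ g = ρ ≫ bPt B j K := by
  have h1 : cpt B' K' R' e₁ ≫ (toBase B' R' ≫ j') = bPt B' j' K' := by
    rw [← Category.assoc, cpt_toBase]
  have h2 : cpt B K R e₀ ≫ (toBase B R ≫ j) = bPt B j K := by
    rw [← Category.assoc, cpt_toBase]
  rw [← h1, ← h2, Category.assoc, ← hψ, ← Category.assoc, hρ, Category.assoc]

/-- The morphism of strictly local base changes. -/
def mm : pl f' g' B' j' R' ⟶ pl f (𝟙 X) B j R :=
  Over.homMk (pullback.lift (pullback.fst f' _ ≫ g') (pullback.snd f' _ ≫ ψ) (by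
      rw [Category.assoc, h.w, Category.assoc, hψ, ← Category.assoc, ← Category.assoc, pullback.condition]))
    (((Category.assoc _ _ _).symm.trans ((congrArg (· ≫ 𝟙 X) (pullback.lift_fst _ _ _)).trans (Category.comp_id _))))

variable (F : EtDesc.Sh X) (hm : Function.Bijective ((G F).obj.map (mm h B j R B' j' R' ψ hψ).op))

/-- A section over a stage on `Y'` as seen on the strictly local base change. -/
abbrev toPl {V : Y.Etale} {k : Idx B' K'} (b : (nb B' j' K').obj k ⟶ (EtCoh.bc g).obj V) :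
    pl f' g' B' j' R' ⟶ (EtFppf.a X).obj ((EtCoh.bc f).obj V) :=
  toStage f' g' B' j' K' R' e₁ k ≫ (cT g').map ((EtCoh.bc f').map b ≫ swap h.w V) ≫ pr g' ((EtCoh.bc f).obj V)

include hρ in
/-- The two descriptions of a section on the strictly local base change agree. -/
theorem toPl_eq {V : Y.Etale} {k : Idx B' K'} (b : (nb B' j' K').obj k ⟶ (EtCoh.bc g).obj V)
    {i : Idx B K} (mv : (nb B j K).obj i ⟶ V)
    (hb : (pt B' j' K' k).left ≫ b.left ≫ pullback.fst V.hom g = ρ ≫ (pt B j K i).left ≫ mv.left) :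
    toPl h B' j' K' R' e₁ b = mm h B j R B' j' R' ψ hψ ≫ toStage f (𝟙 X) B j K R e₀ i ≫
      qq ((EtCoh.bc f).obj ((nb B j K).obj i)) ≫ (EtFppf.a X).map ((EtCoh.bc f).map mv) := by
  let η' := toBase B' R' ≫ j'
  let sk : Spec (CommRingCat.of R') ⟶ ((nb B' j' K').obj k).left :=
    (specCone B' j' K' R' e₁).π.app k
  let si : Spec (CommRingCat.of R) ⟶ ((nb B j K).obj i).left := (specCone B j K R e₀).π.app i
  have hsk : sk ≫ ((nb B' j' K').obj k).hom = η' :=
    (Category.assoc _ _ _).symm.trans (congrArg (· ≫ j') (map_toBase B' (toR B' K' R' e₁ k)))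
  have hsi : si ≫ ((nb B j K).obj i).hom = toBase B R ≫ j :=
    (Category.assoc _ _ _).symm.trans (congrArg (· ≫ j) (map_toBase B (toR B K R e₀ i)))
  let l₁ : Spec (CommRingCat.of R') ⟶ V.left := sk ≫ b.left ≫ pullback.fst V.hom g
  let l₂ : Spec (CommRingCat.of R') ⟶ V.left := ψ ≫ si ≫ mv.left
  have hl : l₁ = l₂ := by
    refine hom_ext_local V (cpt B' K' R' e₁) (eq_top_of_cpt_mem B' K' R' e₁) l₁ l₂ ?_ ?_
    · have eb : b.left ≫ pullback.snd V.hom g = ((nb B' j' K').obj k).hom := MorphismProperty.Over.w b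
      have ev : mv.left ≫ V.hom = ((nb B j K).obj i).hom := MorphismProperty.Over.w mv
      calc l₁ ≫ V.hom = (sk ≫ b.left ≫ pullback.snd V.hom g) ≫ g := by
            simp only [l₁, Category.assoc]
            exact congrArg (fun z => sk ≫ b.left ≫ z) pullback.condition
        _ = η' ≫ g := by rw [eb, hsk]
        _ = ψ ≫ toBase B R ≫ j := hψ.symm
        _ = l₂ ≫ V.hom := by simp only [l₂, Category.assoc]; rw [ev, hsi]
    · have hk : cpt B' K' R' e₁ ≫ sk = (pt B' j' K' k).left := cpt_toR B' K' R' e₁ k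
      have hi : cpt B K R e₀ ≫ si = (pt B j K i).left := cpt_toR B K R e₀ i
      calc cpt B' K' R' e₁ ≫ l₁ = (pt B' j' K' k).left ≫ b.left ≫ pullback.fst V.hom g := by
            exact (Category.assoc _ _ _).symm.trans (eq_whisker hk _)
        _ = ρ ≫ (cpt B K R e₀ ≫ si) ≫ mv.left := by rw [hb, hi]; rfl
        _ = cpt B' K' R' e₁ ≫ l₂ := by
            simp only [l₂, Category.assoc]
            exact (Category.assoc _ _ _).symm.trans ((eq_whisker hρ.symm _).trans (Category.assoc _ _ _))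
  refine Over.OverMorphism.ext (pullback.hom_ext ?_ ?_)
  · -- the component towards `V`
    have e₂ : (mm h B j R B' j' R' ψ hψ).left ≫ pullback.snd f _ = pullback.snd f' _ ≫ ψ := pullback.lift_snd _ _ _
    have r₂ : rr f B j K R e₀ i ≫ pullback.fst ((nb B j K).obj i).hom f = pullback.snd f _ ≫ si :=
      rr_fst f B j K R e₀ i
    have r₁ : rr f' B' j' K' R' e₁ k ≫ pullback.fst ((nb B' j' K').obj k).hom f' = pullback.snd f' _ ≫ sk :=
      rr_fst f' B' j' K' R' e₁ k
    calc (toPl h B' j' K' R' e₁ b).left ≫ pullback.fst V.hom f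
        = rr f' B' j' K' R' e₁ k ≫ pullback.fst ((nb B' j' K').obj k).hom f' ≫ b.left ≫ pullback.fst V.hom g := by
          show (rr f' B' j' K' R' e₁ k ≫ (((EtCoh.bc f').map b).left ≫ (swap h.w V).left) ≫
            pullback.fst (pullback.snd V.hom f) g') ≫ pullback.fst V.hom f = _
          simp only [Category.assoc]
          refine congrArg (rr f' B' j' K' R' e₁ k ≫ ·) ?_
          refine (whisker_eq _ ((Category.assoc _ _ _).symm.trans (eq_whisker (pullback.lift_fst _ _ _) _))).trans ?_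
          refine (whisker_eq _ (pullback.lift_fst _ _ _)).trans ?_
          refine (Category.assoc _ _ _).symm.trans ?_
          refine (eq_whisker (EtCoh.isPullback_bc_map f' b).w _).trans ?_
          exact Category.assoc _ _ _
      _ = pullback.snd f' _ ≫ l₁ := by
          simp only [l₁, ← Category.assoc, r₁]
      _ = pullback.snd f' _ ≫ l₂ := by rw [hl]
      _ = (mm h B j R B' j' R' ψ hψ).left ≫ (rr f B j K R e₀ i ≫ pullback.fst ((nb B j K).obj i).hom f) ≫ mv.left := by
          simp only [l₂, r₂, ← Category.assoc, e₂]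
      _ = _ := by
          show _ = ((mm h B j R B' j' R' ψ hψ).left ≫ rr f B j K R e₀ i ≫ 𝟙 _ ≫ ((EtCoh.bc f).map mv).left) ≫
            pullback.fst V.hom f
          simp only [Category.assoc]
          refine congrArg (_ ≫ ·) (congrArg (_ ≫ ·) ?_)
          refine Eq.trans ?_ (Category.id_comp _).symm
          exact (EtCoh.isPullback_bc_map f mv).w.symm
  · calc (toPl h B' j' K' R' e₁ b).left ≫ pullback.snd V.hom f = pullback.fst f' _ ≫ g' :=
          Over.w (toPl h B' j' K' R' e₁ b)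
      _ = _ := (Over.w (mm h B j R B' j' R' ψ hψ ≫ toStage f (𝟙 X) B j K R e₀ i ≫
          qq ((EtCoh.bc f).obj ((nb B j K).obj i)) ≫ (EtFppf.a X).map ((EtCoh.bc f).map mv))).symm

/-- `psi` on a stage as a section of the big sheaf. -/
theorem theta_psi {V : Y.Etale} {W : Y'.Etale} (b : W ⟶ (EtCoh.bc g).obj V)
    (s : F.obj.obj (op ((EtCoh.bc f).obj V))) :
    (theta g' F).hom.app (op ((EtCoh.bc f').obj W)) ((P g' F).obj.map ((EtCoh.bc f').map b).op (psi h F V s)) =
      e F ((cT g').map ((EtCoh.bc f').map b ≫ swap h.w V) ≫ pr g' ((EtCoh.bc f).obj V)) s := by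
  rw [psi, ← Functor.map_comp_apply, ← op_comp]
  exact theta_map_eta g' F _ s

theorem theta_injective (Q : X'.Etale) : Function.Injective ((theta g' F).hom.app (op Q)) := by
  haveI := isIso_theta g' F
  exact (ConcreteCategory.bijective_of_isIso (((sheafToPresheaf _ _).map (theta g' F)).app (op Q))).1

variable [QuasiCompact f] [QuasiSeparated f] [QuasiCompact f'] [QuasiSeparated f']

include hm hρ in
/-- Surjectivity on stalks. -/
theorem exists_psi_eq (R₀ : Y'.Etale) (r : (Scheme.pointSmallEtale (bPt B' j' K')).fiber.obj R₀)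
    (t : (P g' F).obj.obj (op ((EtCoh.bc f').obj R₀))) :
    ∃ (V : Y.Etale) (y : (Scheme.pointSmallEtale (bPt B' j' K' ≫ g)).fiber.obj V)
      (s : F.obj.obj (op ((EtCoh.bc f).obj V))) (R'' : Y'.Etale)
      (r' : (Scheme.pointSmallEtale (bPt B' j' K')).fiber.obj R'') (a : R'' ⟶ R₀) (b : R'' ⟶ (EtCoh.bc g).obj V),
      (Scheme.pointSmallEtale (bPt B' j' K')).fiber.map a r' = r ∧
      (Scheme.pointSmallEtale (bPt B' j' K')).fiber.map b r' = up g y ∧
      (P g' F).obj.map ((EtCoh.bc f').map a).op t = (P g' F).obj.map ((EtCoh.bc f').map b).op (psi h F V s) := by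
  obtain ⟨k, m₀, hm₀⟩ := exists_dom B' j' K' R₀ r
  let z' := (theta g' F).hom.app (op ((EtCoh.bc f').obj ((nb B' j' K').obj k)))
    ((P g' F).obj.map ((EtCoh.bc f').map m₀).op t)
  obtain ⟨x, hx⟩ := hm.2 ((G F).obj.map (toStage f' g' B' j' K' R' e₁ k).op z')
  obtain ⟨i, z, rfl⟩ := exists_stage_pl f (𝟙 X) F B j K R e₀ x
  obtain ⟨s, rfl⟩ := (e_qq_bijective F _).2 z
  let V := (nb B j K).obj i
  let y : (Scheme.pointSmallEtale (bPt B' j' K' ≫ g)).fiber.obj V := Over.homMk (ρ ≫ (pt B j K i).left)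
    ((Category.assoc _ _ _).trans ((congrArg (ρ ≫ ·) (Over.w (pt B j K i))).trans
      (bPt_eq B j K R e₀ B' j' K' R' e₁ ψ hψ ρ hρ).symm))
  obtain ⟨k₂, b₂, hb₂⟩ := exists_dom B' j' K' ((EtCoh.bc g).obj V) (up g y)
  obtain ⟨l, q₁, q₂, -⟩ := IsCofilteredOrEmpty.cone_objs k k₂
  let a : (nb B' j' K').obj l ⟶ R₀ := (nb B' j' K').map q₁ ≫ m₀
  let b : (nb B' j' K').obj l ⟶ (EtCoh.bc g).obj V := (nb B' j' K').map q₂ ≫ b₂
  have hb : (Scheme.pointSmallEtale (bPt B' j' K')).fiber.map b (pt B' j' K' l) = up g y := by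
    rw [CategoryTheory.Functor.map_comp, ConcreteCategory.comp_apply, map_pt B' j' K' q₂, hb₂]
  have hpt : (pt B' j' K' l).left ≫ b.left ≫ pullback.fst V.hom g =
      ρ ≫ (pt B j K i).left ≫ (𝟙 V : V ⟶ V).left := by
    refine (Category.assoc _ _ _).symm.trans ((eq_whisker (congrArg (fun w => w.left) hb) _).trans ?_)
    refine (pullback.lift_fst _ _ _).trans ?_
    exact congrArg (ρ ≫ ·) (Category.comp_id _).symm
  have hl : (G F).obj.map (toStage f' g' B' j' K' R' e₁ l).op
      ((theta g' F).hom.app (op ((EtCoh.bc f').obj ((nb B' j' K').obj l))) ((P g' F).obj.map ((EtCoh.bc f').map a).op t)) =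
      (G F).obj.map (toStage f' g' B' j' K' R' e₁ l).op
        ((theta g' F).hom.app (op ((EtCoh.bc f').obj ((nb B' j' K').obj l)))
          ((P g' F).obj.map ((EtCoh.bc f').map b).op (psi h F V s))) := by
    have e₁' : (theta g' F).hom.app (op ((EtCoh.bc f').obj ((nb B' j' K').obj l))) ((P g' F).obj.map ((EtCoh.bc f').map a).op t) =
        (G F).obj.map ((cT g').map ((EtCoh.bc f').map ((nb B' j' K').map q₁))).op z' := by
      rw [show (EtCoh.bc f').map a = (EtCoh.bc f').map ((nb B' j' K').map q₁) ≫ (EtCoh.bc f').map m₀ from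
        Functor.map_comp _ _ _, op_comp, Functor.map_comp, ConcreteCategory.comp_apply]
      exact NatTrans.naturality_apply (theta g' F).hom ((EtCoh.bc f').map ((nb B' j' K').map q₁)).op _
    rw [e₁', map_comp', toStage_map, ← hx, map_comp', e_map, theta_psi h F b s, e_map]
    refine congrArg (fun c => e F c s) (Eq.trans ?_ (toPl_eq h B j K R e₀ B' j' K' R' e₁ ψ hψ ρ hρ b (𝟙 V) hpt).symm)
    rw [CategoryTheory.Functor.map_id, CategoryTheory.Functor.map_id, Category.comp_id, Category.assoc]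
  obtain ⟨l₂, q, hq⟩ := exists_eq_pl f' g' F B' j' K' R' e₁ l _ _ hl
  refine ⟨V, y, s, (nb B' j' K').obj l₂, pt B' j' K' l₂, (nb B' j' K').map q ≫ a, (nb B' j' K').map q ≫ b, ?_, ?_, ?_⟩
  · rw [CategoryTheory.Functor.map_comp, ConcreteCategory.comp_apply, map_pt B' j' K' q,
      CategoryTheory.Functor.map_comp, ConcreteCategory.comp_apply, map_pt B' j' K' q₁, hm₀]
  · rw [CategoryTheory.Functor.map_comp, ConcreteCategory.comp_apply, map_pt B' j' K' q, hb]
  · refine theta_injective F _ ?_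
    simp only [(EtCoh.bc f').map_comp, op_comp, (P g' F).obj.map_comp, ConcreteCategory.comp_apply]
    refine (NatTrans.naturality_apply (theta g' F).hom ((EtCoh.bc f').map ((nb B' j' K').map q)).op _).trans ?_
    refine Eq.trans ?_ (NatTrans.naturality_apply (theta g' F).hom ((EtCoh.bc f').map ((nb B' j' K').map q)).op _).symm
    simp only [(EtCoh.bc f').map_comp, op_comp, (P g' F).obj.map_comp, ConcreteCategory.comp_apply] at hq
    exact hq

include hm hρ in
/-- Injectivity on stalks. -/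
theorem eq_of_psi_eq (V : Y.Etale) (y : (Scheme.pointSmallEtale (bPt B' j' K' ≫ g)).fiber.obj V)
    (s₁ s₂ : F.obj.obj (op ((EtCoh.bc f).obj V)))
    (R₀ : Y'.Etale) (r : (Scheme.pointSmallEtale (bPt B' j' K')).fiber.obj R₀) (b : R₀ ⟶ (EtCoh.bc g).obj V)
    (hb : (Scheme.pointSmallEtale (bPt B' j' K')).fiber.map b r = up g y)
    (he : (P g' F).obj.map ((EtCoh.bc f').map b).op (psi h F V s₁) =
      (P g' F).obj.map ((EtCoh.bc f').map b).op (psi h F V s₂)) :
    ∃ (V' : Y.Etale) (a : V' ⟶ V) (y' : (Scheme.pointSmallEtale (bPt B' j' K' ≫ g)).fiber.obj V'),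
      (Scheme.pointSmallEtale (bPt B' j' K' ≫ g)).fiber.map a y' = y ∧
        F.obj.map ((EtCoh.bc f).map a).op s₁ = F.obj.map ((EtCoh.bc f).map a).op s₂ := by
  have hbp := bPt_eq B j K R e₀ B' j' K' R' e₁ ψ hψ ρ hρ
  obtain ⟨y₀, hy₀⟩ := EtSite.exists_descend (bPt B j K) V ρ y.left ((Over.w y).trans hbp)
  obtain ⟨i, mv, hmv⟩ := exists_dom B j K V y₀
  obtain ⟨k, m₀, hm₀⟩ := exists_dom B' j' K' R₀ r
  let b' : (nb B' j' K').obj k ⟶ (EtCoh.bc g).obj V := m₀ ≫ b
  have hpt : (pt B' j' K' k).left ≫ b'.left ≫ pullback.fst V.hom g = ρ ≫ (pt B j K i).left ≫ mv.left := by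
    have e1 : (Scheme.pointSmallEtale (bPt B' j' K')).fiber.map b' (pt B' j' K' k) = up g y := by
      rw [CategoryTheory.Functor.map_comp, ConcreteCategory.comp_apply, hm₀, hb]
    refine (Category.assoc _ _ _).symm.trans ((eq_whisker (congrArg (fun w => w.left) e1) _).trans ?_)
    refine (pullback.lift_fst _ _ _).trans (hy₀.symm.trans ?_)
    exact congrArg (ρ ≫ ·) (congrArg (fun w => w.left) hmv).symm
  have he' := congrArg (fun t => (G F).obj.map (toStage f' g' B' j' K' R' e₁ k).op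
    ((theta g' F).hom.app (op ((EtCoh.bc f').obj ((nb B' j' K').obj k))) ((P g' F).obj.map ((EtCoh.bc f').map m₀).op t))) he
  simp only [← Functor.map_comp_apply, ← op_comp, ← Functor.map_comp] at he'
  rw [show m₀ ≫ b = b' from rfl, theta_psi h F b' s₁, theta_psi h F b' s₂, e_map, e_map,
    show toStage f' g' B' j' K' R' e₁ k ≫ (cT g').map ((EtCoh.bc f').map b' ≫ swap h.w V) ≫
        pr g' ((EtCoh.bc f).obj V) = _ from toPl_eq h B j K R e₀ B' j' K' R' e₁ ψ hψ ρ hρ b' mv hpt] at he'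
  have he₂ : (G F).obj.map (toStage f (𝟙 X) B j K R e₀ i).op (e F (qq _) (F.obj.map ((EtCoh.bc f).map mv).op s₁)) =
      (G F).obj.map (toStage f (𝟙 X) B j K R e₀ i).op (e F (qq _) (F.obj.map ((EtCoh.bc f).map mv).op s₂)) := by
    rw [e_nat, e_nat, e_map, e_map]
    refine hm.1 ?_
    rw [e_map, e_map]
    exact he'
  obtain ⟨l, q, hq⟩ := exists_eq_pl f (𝟙 X) F B j K R e₀ i _ _ he₂
  rw [e_qq_map, e_qq_map] at hq
  refine ⟨(nb B j K).obj l, (nb B j K).map q ≫ mv, Over.homMk (ρ ≫ (pt B j K l).left)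
    ((Category.assoc _ _ _).trans ((congrArg (ρ ≫ ·) (Over.w (pt B j K l))).trans hbp.symm)), ?_, ?_⟩
  · refine Over.OverMorphism.ext ?_
    refine Eq.trans ?_ hy₀
    refine (Category.assoc _ _ _).trans (congrArg (ρ ≫ ·) ?_)
    refine congrArg (fun w => w.left) (show (Scheme.pointSmallEtale (bPt B j K)).fiber.map
      ((nb B j K).map q ≫ mv) (pt B j K l) = y₀ from ?_)
    rw [CategoryTheory.Functor.map_comp, ConcreteCategory.comp_apply, map_pt B j K q, hmv]
  · have := (e_qq_bijective F _).1 hq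
    simp only [(EtCoh.bc f).map_comp, op_comp, F.obj.map_comp, ConcreteCategory.comp_apply]
    exact this

section Generic

variable {A : Type w} [Category.{v} A] {FA : A → A → Type*} {CA : A → Type (u + 1)}
  [∀ (P Q : A), FunLike (FA P Q) (CA P) (CA Q)] [ConcreteCategory.{u + 1} A FA]
  [HasColimitsOfSize.{u, u} A] [HasProducts.{u} A] [PreservesFilteredColimitsOfSize.{u, u} (forget A)]
  [∀ X : Scheme.{u}, X.smallEtaleTopology.HasSheafCompose (forget A)]
  [((EtCoh.bc g').sheafPushforwardContinuous A X.smallEtaleTopology X'.smallEtaleTopology).IsRightAdjoint]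
  [((EtCoh.bc g).sheafPushforwardContinuous A Y.smallEtaleTopology Y'.smallEtaleTopology).IsRightAdjoint]

theorem chi_psi (E : Sheaf X.smallEtaleTopology A) (V : Y.Etale) (W : Y'.Etale) (b : W ⟶ (EtCoh.bc g).obj V)
    (s : ToType (E.obj.obj (op ((EtCoh.bc f).obj V)))) :
    (chi g' E).hom.app (op ((EtCoh.bc f').obj W))
        ((P g' (und E)).obj.map ((EtCoh.bc f').map b).op (psi h (und E) V s)) =
      (P g' E).obj.map ((EtCoh.bc f').map b).op (psi h E V s) := by
  rw [psi, psi, ← Functor.map_comp_apply, ← op_comp, chi_map_eta, op_comp, Functor.map_comp,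
    ConcreteCategory.comp_apply]

include hρ in
/-- Base change is bijective on the stalk, for sheaves with values in any admissible category. -/
theorem bijective_stalk (E : Sheaf X.smallEtaleTopology A)
    (hm : Function.Bijective ((G (und E)).obj.map (mm h B j R B' j' R' ψ hψ).op))
    (θ : ((EtCoh.bc g).sheafPullback A Y.smallEtaleTopology Y'.smallEtaleTopology).obj
      (((EtCoh.bc f).sheafPushforwardContinuous A Y.smallEtaleTopology X.smallEtaleTopology).obj E) ⟶
    ((EtCoh.bc f').sheafPushforwardContinuous A Y'.smallEtaleTopology X'.smallEtaleTopology).obj (P g' E))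
    (hθ : ∀ (V : Y.Etale) (s : ToType (E.obj.obj (op ((EtCoh.bc f).obj V)))),
      ((((EtCoh.bc g).sheafAdjunctionContinuous A Y.smallEtaleTopology Y'.smallEtaleTopology).homEquiv _ _) θ).hom.app
        (op V) s = psi h E V s) :
    Function.Bijective ((Scheme.pointSmallEtale (bPt B' j' K')).sheafFiber.map θ) := by
  let Φ := Scheme.pointSmallEtale (bPt B' j' K')
  let G₀ := ((EtCoh.bc f).sheafPushforwardContinuous A Y.smallEtaleTopology X.smallEtaleTopology).obj E
  let adj := (EtCoh.bc g).sheafAdjunctionContinuous A Y.smallEtaleTopology Y'.smallEtaleTopology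
  let e := (Φ.sheafFiberComapIso (EtCoh.bc g) (EtCoh.coverPreserving_bc g) A).hom.app G₀
  let Q := ((EtCoh.bc f').sheafPushforwardContinuous A Y'.smallEtaleTopology X'.smallEtaleTopology).obj (P g' E)
  haveI := isIso_chi g' E
  have hchi : ∀ Q₀ : X'.Etale, Function.Bijective ((chi g' E).hom.app (op Q₀)) := fun Q₀ =>
    ConcreteCategory.bijective_of_isIso (((sheafToPresheaf _ _).map (chi g' E)).app (op Q₀))
  have key : ∀ (V : Y.Etale) (x : Φ.fiber.obj ((EtCoh.bc g).obj V))
      (s : ToType (E.obj.obj (op ((EtCoh.bc f).obj V)))),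
      Φ.sheafFiber.map θ (e ((Φ.comap (EtCoh.bc g) (EtCoh.coverPreserving_bc g)).toPresheafFiber V x G₀.obj s)) =
        Φ.toPresheafFiber ((EtCoh.bc g).obj V) x Q.obj (psi h E V s) := by
    intro V x s
    rw [← hθ V s]
    refine (congrArg (Φ.sheafFiber.map θ) ((ConcreteCategory.comp_apply _ _ _).symm.trans ((ConcreteCategory.congr_hom
      (EtSite.toPresheafFiber_sheafFiberComapIso_hom Φ (EtCoh.bc g) (EtCoh.coverPreserving_bc g) A G₀ V x) s).trans
        (ConcreteCategory.comp_apply _ _ _)))).trans ?_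
    refine (Φ.toPresheafFiber_naturality_apply θ.hom _ x _).trans (congrArg _ ?_)
    exact ((congrArg (fun φ => φ.hom.app (op V) s) (adj.homEquiv_unit (X := G₀) (Y := Q) (f := θ))).trans
      (ConcreteCategory.comp_apply _ _ _)).symm
  refine ⟨fun p₁ p₂ hp => ?_, fun p => ?_⟩
  · obtain ⟨q₁, rfl⟩ := (ConcreteCategory.bijective_of_isIso e).2 p₁
    obtain ⟨q₂, rfl⟩ := (ConcreteCategory.bijective_of_isIso e).2 p₂
    obtain ⟨V, x, s₁, s₂, rfl, rfl⟩ :=
      (Φ.comap (EtCoh.bc g) (EtCoh.coverPreserving_bc g)).toPresheafFiber_jointly_surjective₂ (P := G₀.obj) q₁ q₂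
    rw [key, key] at hp
    obtain ⟨R₀, b, r, hr, he⟩ := (Φ.toPresheafFiber_eq_iff' _ _ _ _).1 hp
    have he' : (P g' (und E)).obj.map ((EtCoh.bc f').map b).op (psi h (und E) V s₁) =
        (P g' (und E)).obj.map ((EtCoh.bc f').map b).op (psi h (und E) V s₂) :=
      (hchi _).1 (((chi_psi h E V R₀ b s₁).trans he).trans (chi_psi h E V R₀ b s₂).symm)
    obtain ⟨V', a, y', hy', hs⟩ := eq_of_psi_eq h B j K R e₀ B' j' K' R' e₁ ψ hψ ρ hρ (und E) hm V (down g x)
      s₁ s₂ R₀ r b (hr.trans (up_down g x).symm) he'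
    refine congrArg e (((Φ.comap (EtCoh.bc g) (EtCoh.coverPreserving_bc g)).toPresheafFiber_eq_iff' _ _ _ _).2
      ⟨V', a, up g y', ?_, hs⟩)
    show Φ.fiber.map ((EtCoh.bc g).map a) (up g y') = x
    rw [EtSite.BC.map_up, hy', up_down]
  · obtain ⟨R₀, r, t, rfl⟩ := Φ.toPresheafFiber_jointly_surjective (P := Q.obj) p
    obtain ⟨t₀, ht₀⟩ := (hchi _).2 t
    obtain ⟨V, y, s, R₁, r', a, b, ha, hb, hab⟩ :=
      exists_psi_eq h B j K R e₀ B' j' K' R' e₁ ψ hψ ρ hρ (und E) hm R₀ r t₀
    refine ⟨e ((Φ.comap (EtCoh.bc g) (EtCoh.coverPreserving_bc g)).toPresheafFiber V (up g y) G₀.obj s), ?_⟩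
    rw [key, ← ha, ← hb, ← GrothendieckTopology.Point.toPresheafFiber_w_apply,
      ← GrothendieckTopology.Point.toPresheafFiber_w_apply]
    refine congrArg _ ?_
    refine (chi_psi h E V R₁ b s).symm.trans ((congrArg _ hab.symm).trans ?_)
    refine (NatTrans.naturality_apply (chi g' E).hom ((EtCoh.bc f').map a).op t₀).trans ?_
    exact congrArg ((und (P g' E)).obj.map ((EtCoh.bc f').map a).op) ht₀

end Generic

end Groth.L27.BigSets.QC
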